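import Cfsg.Agent.Lib.Involution.UnitaryCentralizer.Socle

/-!
The structural form of Bender's theorem read off at a Sylow `2`-subgroup.
-/

set_option autoImplicit false
set_option linter.style.haveILetI false

namespace CfsgLib.Involution.UnitarySylowGroup

open Subgroup CfsgLib.Involution.SEModule

/-- Transport of `PSU(3, q)` along an isomorphism of fields. -/
noncomputable def psuCongr {E F : Type*} [Field E] [Fintype E] [Field F] [Fintype F] {q : ℕ}
    (hE : Fintype.card E = q ^ 2) (hF : Fintype.card F = q ^ 2) : Cfsg.PSU 3 E q ≃* Cfsg.PSU 3 F q :=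
  let u := CfsgLib.Chevalley.G2Two.suCongr (FiniteField.ringEquivOfCardEq (hE.trans hF.symm)) 3 q
  QuotientGroup.congr _ _ u (by
    ext x
    simp only [Subgroup.mem_map, Subgroup.mem_center_iff]
    refine ⟨?_, fun h => ⟨u.symm x, fun g => u.injective ?_, u.apply_symm_apply x⟩⟩
    · rintro ⟨y, hy, rfl⟩ g
      obtain ⟨g, rfl⟩ := u.surjective g
      exact (map_mul u g y).symm.trans ((congrArg u (hy g)).trans (map_mul u y g))
    · rw [map_mul, map_mul, u.apply_symm_apply]; exact h (u g))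

variable {G : Type*} [Group G] [Finite G]

/-- The three shapes of the Sylow `2`-subgroup of a Bender group with trivial odd core. -/
theorem bender_cases (hB : BenderStructure G) (hO : Cfsg.pPrimeCore 2 G = ⊥) (S : Sylow 2 G) {u v : G}
    (hu : orderOf u = 2) (hv : orderOf v = 2) (huv : u * v = v * u) (hne : u ≠ v) :
    ∃ L : Subgroup G, L.Normal ∧ Odd L.index ∧ (S : Subgroup G) ≤ L ∧
      ((∀ s ∈ (S : Subgroup G), s * s = 1) ∨
        (∃ r : ℕ, 8 ≤ r ∧ Nat.card S = r ^ 2 ∧ Nat.card (center ↥(S : Subgroup G)) = r) ∨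
        (∃ (E : Type) (_ : Field E) (_ : Fintype E) (l : ℕ), 2 ≤ l ∧ Fintype.card E = (2 ^ l) ^ 2 ∧
          Nonempty (↥L ≃* Cfsg.PSU 3 E (2 ^ l)) ∧ Nat.card S = (2 ^ l) ^ 3 ∧
          Nat.card (center ↥(S : Subgroup G)) = 2 ^ l)) := by
  classical
  haveI : Fact (Nat.Prime 2) := ⟨Nat.prime_two⟩
  haveI := CfsgLib.Solvable.Cores.pPrimeCore_normal (G := G) 2
  set π := QuotientGroup.mk' (Cfsg.pPrimeCore 2 G) with hπ
  have hπi : Function.Injective π := by
    rw [← MonoidHom.ker_eq_bot_iff, hπ, QuotientGroup.ker_mk', hO]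
  set L' := Cfsg.pElementClosure 2 (⊤ : Subgroup (G ⧸ Cfsg.pPrimeCore 2 G)) with hL'
  set L := L'.comap π with hL
  have hL'n : L'.Normal := by
    refine ⟨fun w hw g => ?_⟩
    have : L'.map (MulAut.conj g).toMonoidHom ≤ L' := by
      rw [hL', Cfsg.pElementClosure, MonoidHom.map_closure]
      refine closure_mono ?_
      rintro _ ⟨v, ⟨-, k, hk⟩, rfl⟩
      exact ⟨mem_top _, k, by rw [MulEquiv.coe_toMonoidHom, MulEquiv.orderOf_eq, hk]⟩
    exact this ⟨w, hw, rfl⟩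
  have hLn : L.Normal := hL'n.comap π
  have hSL : (S : Subgroup G) ≤ L := fun s hs => by
    obtain ⟨j, hj⟩ := S.2 ⟨s, hs⟩
    obtain ⟨j', -, hj'⟩ := (Nat.dvd_prime_pow Nat.prime_two).1
      ((orderOf_map_dvd π s).trans (orderOf_dvd_of_pow_eq_one (congrArg Subtype.val hj)))
    exact subset_closure ⟨mem_top _, j', hj'⟩
  have hodd : Odd L.index :=
    (Nat.not_even_iff_odd.1 fun h => S.not_dvd_index ((even_iff_two_dvd.1 h).trans (index_dvd_of_le hSL)))
  let eq' : ↥L ≃* ↥L' := MulEquiv.ofBijective (π.subgroupComap L')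
    ⟨fun a b h => Subtype.ext (hπi (congrArg Subtype.val h)),
      MonoidHom.subgroupComap_surjective_of_surjective _ _ (QuotientGroup.mk'_surjective _)⟩
  set P : Sylow 2 ↥L := S.subtype hSL with hP
  let eS : ↥(P : Subgroup ↥L) ≃* ↥(S : Subgroup G) :=
    (MulEquiv.subgroupCongr (Sylow.coe_subtype S hSL)).trans (subgroupOfEquivOfLe hSL)
  refine ⟨L, hLn, hodd, hSL, ?_⟩
  rcases hB with h1 | ⟨E, _, _, _, -, ⟨e⟩⟩ | ⟨E, _, _, r, hr, h4, hE, ⟨e⟩⟩ | ⟨E, _, _, m, hm, hE, ⟨e⟩⟩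
  · exact absurd ((h1 u hu).2 v (mem_centralizer_singleton_iff.2 huv.symm) hv) (Ne.symm hne)
  · refine Or.inl fun s hs => ?_
    obtain ⟨k, hk⟩ := P.2 (eS.symm ⟨s, hs⟩)
    have hk' : (⟨s, hSL hs⟩ : ↥L) ^ 2 ^ k = 1 := congrArg Subtype.val hk
    have h := UnitaryCentralizer.sl2_sq_eq_one ((eq'.trans e) ⟨s, hSL hs⟩) (k := k) (by
      rw [← map_pow, hk', map_one])
    rw [← map_mul, ← map_one (eq'.trans e)] at h
    exact congrArg Subtype.val ((eq'.trans e).injective h)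
  · obtain ⟨l, rfl⟩ : ∃ l, r = 2 ^ l := by
      obtain ⟨p', hp'⟩ := CharP.exists E
      obtain ⟨j, hpp, hj⟩ := FiniteField.card E p'
      rw [hE] at hj
      obtain ⟨i, -, hi⟩ := (Nat.dvd_prime_pow hpp).1 (hj ▸ dvd_pow_self r two_ne_zero : r ∣ p' ^ (j : ℕ))
      have hp2 : p' = 2 := ((Nat.prime_dvd_prime_iff_eq Nat.prime_two hpp).1
        (Nat.prime_two.dvd_of_dvd_pow (hj ▸ dvd_pow hr.two_dvd two_ne_zero : 2 ∣ p' ^ (j : ℕ)))).symm
      exact ⟨i, hp2 ▸ hi⟩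
    have hl : 2 ≤ l := by
      by_contra h
      have : 2 ^ l ≤ 2 ^ 1 := Nat.pow_le_pow_right (by norm_num) (by omega)
      omega
    let P' : Sylow 2 (Cfsg.PSU 3 E (2 ^ l)) :=
      P.mapSurjective (f := (eq'.trans e).toMonoidHom) (eq'.trans e).surjective
    obtain ⟨h3, hz, -⟩ := Cfsg.Agent.S1141.result hl hE P'
    let i : ↥(P' : Subgroup (Cfsg.PSU 3 E (2 ^ l))) ≃* ↥(S : Subgroup G) :=
      ((MulEquiv.subgroupCongr (rfl : (P' : Subgroup (Cfsg.PSU 3 E (2 ^ l))) =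
        (P : Subgroup ↥L).map (eq'.trans e).toMonoidHom)).trans
        ((P : Subgroup ↥L).equivMapOfInjective _ (eq'.trans e).injective).symm).trans eS
    exact Or.inr (Or.inr ⟨E, _, _, l, hl, hE, ⟨eq'.trans e⟩,
      (Nat.card_congr i.toEquiv).symm.trans h3, (Nat.card_congr (centerCongr i).toEquiv).symm.trans hz⟩)
  · refine Or.inr (Or.inl ⟨Nat.card E, ?_, ?_⟩)
    · rw [Nat.card_eq_fintype_card, hE]
      calc 8 = 2 ^ (2 * 1 + 1) := by norm_num
        _ ≤ 2 ^ (2 * m + 1) := Nat.pow_le_pow_right (by norm_num) (by omega)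
    · have he := CfsgLib.KnownB.SzElem.twist_of_card hE
      let P₀ := CfsgLib.KnownB.Suzuki.sylow2 he
      let P' : Sylow 2 ↥(Cfsg.Lie.Sz E (2 ^ (m + 1))) :=
        P.mapSurjective (f := (eq'.trans e).toMonoidHom) (eq'.trans e).surjective
      let i : ↥(S : Subgroup G) ≃* ↥(P₀ : Subgroup ↥(Cfsg.Lie.Sz E (2 ^ (m + 1)))) :=
        (eS.symm.trans (((P : Subgroup ↥L).equivMapOfInjective _ (eq'.trans e).injective).trans
          (MulEquiv.subgroupCongr (rfl : _ = (P' : Subgroup ↥(Cfsg.Lie.Sz E (2 ^ (m + 1)))))))).trans (Sylow.equiv P' P₀)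
      refine ⟨?_, ?_⟩
      · rw [Nat.card_congr i.toEquiv, CfsgLib.KnownB.Suzuki.coe_sylow2, CfsgLib.KnownB.Suzuki.card_uGroup]
      · rw [Nat.card_congr (centerCongr i).toEquiv]
        have hmem : ∀ g, g ∈ center ↥(CfsgLib.KnownB.Suzuki.uGroup he) ↔
            ∃ b, (g : ↥(Cfsg.Lie.Sz E (2 ^ (m + 1)))) = CfsgLib.KnownB.Suzuki.P he 0 b :=
          CfsgLib.KnownB.Suzuki.sylow_center he (CfsgLib.KnownB.Suzuki.exists_pow_ne he hm hE)
        refine (Nat.card_congr (Equiv.ofBijective (fun b : E => (⟨⟨CfsgLib.KnownB.Suzuki.P he 0 b,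
          CfsgLib.KnownB.Suzuki.P_mem_uGroup he 0 b⟩, (hmem _).2 ⟨b, rfl⟩⟩ :
            center ↥(CfsgLib.KnownB.Suzuki.uGroup he))) ⟨?_, ?_⟩)).symm
        · intro b b' h
          exact (CfsgLib.KnownB.Suzuki.P_injective he
            (congrArg (fun z => (z.1.1 : ↥(Cfsg.Lie.Sz E (2 ^ (m + 1))))) h)).2
        · rintro ⟨g, hg⟩
          obtain ⟨b, hb⟩ := (hmem g).1 hg
          exact ⟨b, Subtype.ext (Subtype.ext hb.symm)⟩

end CfsgLib.Involution.UnitarySylowGroup
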