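import Cfsg.Agent.Lib.Involution.UnitarySylowGroup.Tools
import Cfsg.Agent.Lib.Involution.UnitarySylowGroup.Bender
import Cfsg.Agent.Lib.Coprime.OneClassInvolutions
import Cfsg.Agent.Lib.Coprime.Action
import Cfsg.Agent.Lib.NumberTheory.SylowCount
import Cfsg.Agent.Lib.Fusion.Abelian
import Cfsg.Agent.S0949
import Cfsg.Agent.S0075
import Cfsg.Agent.S0018

/-!
A group with an abelian Sylow `2`-subgroup of exponent four whose involutions are squares and have
solvable or trivial centraliser conditions is solvable.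
-/

set_option autoImplicit false
set_option linter.style.haveILetI false

namespace CfsgLib.Involution.UnitarySylowGroup

open Subgroup CfsgLib.Involution.SEModule
open scoped commutatorElement

universe u

/-- The structural form of Bender's theorem in a fixed universe. -/
def BenderHyp : Prop :=
  ∀ (X : Type u) [Group X] [Finite X] (K : Subgroup X), Cfsg.IsStronglyEmbedded K → BenderStructure X

variable {G : Type u} [Group G]

/-- A centraliser in a quotient by an odd normal subgroup is solvable with the centraliser. -/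
theorem isSolvable_centralizer_quotient [Finite G] (N : Subgroup G) [N.Normal] (hN : Odd (Nat.card N)) {a : G}
    (ha : a ^ 2 = 1) (h : Group.IsSolvable ↥(centralizer ({a} : Set G))) :
    Group.IsSolvable ↥(centralizer ({(a : G ⧸ N)} : Set (G ⧸ N))) := by
  let f : ↥(centralizer ({a} : Set G)) →* ↥(centralizer ({(a : G ⧸ N)} : Set (G ⧸ N))) :=
    ((QuotientGroup.mk' N).comp (centralizer ({a} : Set G)).subtype).codRestrict _ fun c =>
      mem_centralizer_singleton_iff.2 (by
        show ((c : G) : G ⧸ N) * (a : G ⧸ N) = (a : G ⧸ N) * ((c : G) : G ⧸ N)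
        rw [← QuotientGroup.mk_mul, mem_centralizer_singleton_iff.1 c.2, QuotientGroup.mk_mul])
  refine Group.isSolvable_of_surjective (f := f) ?_
  rintro ⟨x, hx⟩
  obtain ⟨k, rfl⟩ := QuotientGroup.mk_surjective x
  have hk : ∀ b ∈ zpowers a, ⁅b, k⁆ ∈ N := by
    rintro _ ⟨i, rfl⟩
    have h1 : Commute (k : G ⧸ N) ((a : G ⧸ N) ^ i) :=
      (show Commute (k : G ⧸ N) (a : G ⧸ N) from mem_centralizer_singleton_iff.1 hx).zpow_right i
    refine (QuotientGroup.eq_one_iff _).1 ?_
    show QuotientGroup.mk' N ⁅a ^ i, k⁆ = 1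
    rw [map_commutatorElement, map_zpow, commutatorElement_eq_one_iff_mul_comm]
    exact h1.eq.symm
  obtain ⟨n, hn, hc⟩ := Coprime.exists_mul_mem_centralizer (A := zpowers a) (N := N)
    (le_of_le_of_eq le_top (normalizer_eq_top N).symm)
    ((Nat.coprime_two_left.2 hN).coprime_dvd_left
      ((dvd_of_eq (Nat.card_zpowers a)).trans (orderOf_dvd_of_pow_eq_one ha)))
    (.inl (Coprime.isSolvable_zpowers a)) hk
  refine ⟨⟨n * k, mem_centralizer_singleton_iff.2
    (mem_centralizer_iff.1 hc a (mem_zpowers a)).symm⟩, Subtype.ext ?_⟩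
  show ((n * k : G) : G ⧸ N) = k
  rw [QuotientGroup.mk_mul, (QuotientGroup.eq_one_iff n).2 hn, one_mul]


/-- Recognition of `ℤ/4 × ℤ/4`. -/
theorem nonempty_equiv_of_four [Finite G] {T : Subgroup G} (hT : ∀ x ∈ T, ∀ y ∈ T, x * y = y * x)
    (h4 : ∀ x ∈ T, x ^ 4 = 1) (h16 : Nat.card T = 16) {t1 t2 : G} (h1 : t1 ∈ T) (h2 : t2 ∈ T)
    (ha : t1 * t1 ≠ 1) (hb : t2 * t2 ≠ 1) (hab : t1 * t1 ≠ t2 * t2) :
    Nonempty (↥T ≃* Multiplicative (ZMod (2 ^ 2) × ZMod (2 ^ 2))) := by
  set x : T := ⟨t1, h1⟩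
  set y : T := ⟨t2, h2⟩
  have hc : ∀ a b : T, Commute a b := fun a b => Subtype.ext (hT _ a.2 _ b.2)
  have hp : ∀ (a : T) (i j : ZMod (2 ^ 2)), a ^ (i + j).val = a ^ i.val * a ^ j.val := fun a i j => by
    rw [← pow_add, ZMod.val_add, ← pow_eq_pow_mod _ (show a ^ (2 ^ 2) = 1 from Subtype.ext (h4 _ a.2))]
  let φ : Multiplicative (ZMod (2 ^ 2) × ZMod (2 ^ 2)) →* T :=
    MonoidHom.mk' (fun v => x ^ v.toAdd.1.val * y ^ v.toAdd.2.val) fun v w => by
      show x ^ (v.toAdd.1 + w.toAdd.1).val * y ^ (v.toAdd.2 + w.toAdd.2).val = _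
      rw [hp, hp]
      exact (hc _ _).mul_mul_mul_comm _ _
  set a : T := x * x
  set b : T := y * y
  have ha' : a ≠ 1 := fun e => ha (congrArg Subtype.val e)
  have hb' : b ≠ 1 := fun e => hb (congrArg Subtype.val e)
  have hab' : a ≠ b := fun e => hab (congrArg Subtype.val e)
  have hsq : ∀ s : T, (s * s) ^ 2 = 1 := fun s => by
    rw [← pow_two, ← pow_mul]; exact Subtype.ext (h4 _ s.2)
  have hind : ∀ i j : ℕ, a ^ i * b ^ j = 1 → 2 ∣ i ∧ 2 ∣ j := fun i j h => by
    rw [pow_eq_pow_mod i (hsq x), pow_eq_pow_mod j (hsq y)] at h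
    rcases Nat.mod_two_eq_zero_or_one i with hi | hi <;> rcases Nat.mod_two_eq_zero_or_one j with hj | hj <;>
      rw [hi, hj] at h <;> simp only [pow_zero, pow_one, one_mul, mul_one] at h
    · exact ⟨Nat.dvd_of_mod_eq_zero hi, Nat.dvd_of_mod_eq_zero hj⟩
    · exact absurd h hb'
    · exact absurd h ha'
    · exact absurd ((mul_eq_one_iff_eq_inv.1 h).trans (inv_eq_of_mul_eq_one_right (by rw [← pow_two]; exact hsq y))) hab'
  have hinj : Function.Injective φ := by
    refine (injective_iff_map_eq_one φ).2 fun v hv => ?_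
    have hv' : x ^ v.toAdd.1.val * y ^ v.toAdd.2.val = 1 := hv
    obtain ⟨⟨i, hi⟩, ⟨j, hj⟩⟩ := hind v.toAdd.1.val v.toAdd.2.val (by
      rw [(hc x x).mul_pow, (hc y y).mul_pow, (hc _ _).mul_mul_mul_comm, hv', one_mul])
    rw [hi, hj, pow_mul, pow_mul, pow_two, pow_two] at hv'
    obtain ⟨hi2, hj2⟩ := hind i j hv'
    have l1 := ZMod.val_lt v.toAdd.1
    have l2 := ZMod.val_lt v.toAdd.2
    norm_num at l1 l2
    exact Multiplicative.toAdd.injective (Prod.ext ((ZMod.val_eq_zero _).1 (by omega)) ((ZMod.val_eq_zero _).1 (by omega)))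
  exact ⟨(MulEquiv.ofBijective φ ((Nat.bijective_iff_injective_and_card φ).2 ⟨hinj, by
    rw [h16, Nat.card_congr Multiplicative.toAdd, Nat.card_prod, Nat.card_zmod]; norm_num⟩)).symm⟩

/-- Solvability when the odd core is trivial and each involution of the Sylow subgroup has solvable centraliser. -/
theorem solvable_of_core_bot [Finite G] (hM : BenderHyp.{u}) (hO : Cfsg.pPrimeCore 2 G = ⊥) (T : Sylow 2 G)
    (hT : ∀ x ∈ (T : Subgroup G), ∀ y ∈ (T : Subgroup G), x * y = y * x)
    (h4 : ∀ x ∈ (T : Subgroup G), x ^ 4 = 1)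
    (hsq : ∀ a ∈ (T : Subgroup G), orderOf a = 2 → ∃ t ∈ (T : Subgroup G), t * t = a)
    (hC : ∀ a ∈ (T : Subgroup G), orderOf a = 2 → Group.IsSolvable ↥(centralizer ({a} : Set G))) :
    Group.IsSolvable G := by
  classical
  haveI : Fact (Nat.Prime 2) := ⟨Nat.prime_two⟩
  haveI hTc : IsMulCommutative ↥(T : Subgroup G) := ⟨⟨fun x y => Subtype.ext (hT _ x.2 _ y.2)⟩⟩
  -- normal Sylow subgroups give solvability
  have hnorm : (T : Subgroup G).Normal → Group.IsSolvable G := fun h => by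
    haveI := h
    haveI := CfsgLib.Solvable.Cores.pPrimeCore_normal (G := G) 2
    exact isSolvable_of_closed T (by rw [hO, sup_bot_eq]; exact h)
  let sq : ↥(T : Subgroup G) →* ↥(T : Subgroup G) := MonoidHom.mk' (fun t => t * t) fun x y =>
    (show Commute y x from Subtype.ext (hT _ y.2 _ x.2)).mul_mul_mul_comm x y
  set A := sq.ker.map (T : Subgroup G).subtype with hA
  have memA : ∀ a, a ∈ A ↔ a ∈ (T : Subgroup G) ∧ a * a = 1 := by
    intro a
    refine ⟨?_, fun h => ⟨⟨a, h.1⟩, Subtype.ext h.2, rfl⟩⟩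
    rintro ⟨t, ht, rfl⟩
    exact ⟨t.2, congrArg Subtype.val ht⟩
  have hAle : A ≤ (T : Subgroup G) := map_subtype_le _
  have hA2 : ∀ a ∈ A, a ^ 2 = 1 := fun a ha => by rw [pow_two]; exact ((memA a).1 ha).2
  have hord : ∀ a ∈ A, a ≠ 1 → orderOf a = 2 := fun a ha ha1 => orderOf_eq_prime (hA2 a ha) ha1
  have hcardA : Nat.card A = Nat.card sq.ker := card_map_of_injective (subtype_injective _)
  have hrange : sq.range = sq.ker := by
    refine le_antisymm ?_ ?_
    · rintro _ ⟨t, rfl⟩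
      refine Subtype.ext ?_
      show (t : G) * t * ((t : G) * t) = 1
      rw [← pow_two, ← pow_two, ← pow_mul]
      exact h4 _ t.2
    · rintro ⟨a, haT⟩ ha
      rcases eq_or_ne a 1 with rfl | ha1
      · exact ⟨1, Subtype.ext (one_mul 1)⟩
      · obtain ⟨t, ht, hta⟩ := hsq a haT (hord a ((memA a).2 ⟨haT, congrArg Subtype.val ha⟩) ha1)
        exact ⟨⟨t, ht⟩, Subtype.ext hta⟩
  have hcardT : Nat.card T = Nat.card A * Nat.card A := by
    have h1 := card_eq_card_quotient_mul_card_subgroup sq.ker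
    rw [Nat.card_congr (QuotientGroup.quotientKerEquivRange sq).toEquiv, hrange, ← hcardA] at h1
    exact h1
  have hAp : IsPGroup 2 A := T.2.to_le hAle
  obtain ⟨k, hk⟩ := hAp.exists_card_eq
  obtain rfl | rfl | rfl | hk3 : k = 0 ∨ k = 1 ∨ k = 2 ∨ 3 ≤ k := by omega
  · rw [hk, pow_zero, one_mul] at hcardT
    refine Cfsg.Agent.S0205.result (Nat.not_even_iff_odd.1 fun he => ?_)
    have := T.dvd_card_of_dvd_card (even_iff_two_dvd.1 he)
    omega
  · -- the Sylow subgroup is cyclic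
    have h4T : Nat.card T = 4 := by rw [hcardT, hk]; norm_num
    haveI : Nontrivial A := Finite.one_lt_card_iff_nontrivial.1 (by rw [hk]; norm_num)
    obtain ⟨a, ha1⟩ := exists_ne (1 : A)
    obtain ⟨t, ht, hta⟩ := hsq a.1 (hAle a.2) (hord _ a.2 fun e => ha1 (Subtype.ext e))
    have ht4 : orderOf (⟨t, ht⟩ : ↥(T : Subgroup G)) = 4 := by
      rw [orderOf_mk, show (4 : ℕ) = 2 ^ (1 + 1) from rfl]
      refine orderOf_eq_prime_pow ?_ (h4 t ht)
      rw [pow_one, pow_two, hta]
      exact fun e => ha1 (Subtype.ext e)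
    have hcyc : IsCyclic ↥(T : Subgroup G) := isCyclic_of_orderOf_eq_card _ (ht4.trans h4T.symm)
    rcases Nat.even_or_odd (Nat.card G) with he | ho
    · have hmin : (Nat.card G).minFac = 2 := (Nat.minFac_eq_two_iff _).2 (even_iff_two_dvd.1 he)
      have hc := IsCyclic.isComplement' (p := 2) hmin (P := T) hcyc
      refine CfsgLib.Sectional.OddCoreA8.isSolvable_of_ker (MonoidHom.transferSylow T
          (IsCyclic.normalizer_le_centralizer (p := 2) hmin (P := T) hcyc)) ?_
        (Group.isSolvable_of_comm fun x y => Subtype.ext (hT _ x.2 _ y.2))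
      exact Cfsg.Agent.S0205.result (Nat.not_even_iff_odd.1 fun he' =>
        MonoidHom.not_dvd_card_ker_transferSylow T _ (even_iff_two_dvd.1 he'))
    · exact Cfsg.Agent.S0205.result ho
  · -- the Sylow subgroup is homocyclic of rank two
    have h16 : Nat.card T = 16 := by rw [hcardT, hk]; norm_num
    haveI : Nontrivial A := Finite.one_lt_card_iff_nontrivial.1 (by rw [hk]; norm_num)
    obtain ⟨a, ha1⟩ := exists_ne (1 : A)
    obtain ⟨b, hb1, hba⟩ : ∃ b : A, b ≠ 1 ∧ b ≠ a := by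
      by_contra hno
      push Not at hno
      have : Nat.card A ≤ Nat.card Bool := Nat.card_le_card_of_injective (fun x => decide (x = 1))
        fun x y hxy => by
          simp only [decide_eq_decide] at hxy
          by_cases hx : x = 1
          · rw [hx, hxy.1 hx]
          · rw [hno x hx, hno y fun e => hx (hxy.2 e)]
      rw [hk, show Nat.card Bool = 2 by simp] at this
      omega
    obtain ⟨t1, ht1, e1⟩ := hsq a.1 (hAle a.2) (hord _ a.2 fun e => ha1 (Subtype.ext e))
    obtain ⟨t2, ht2, e2⟩ := hsq b.1 (hAle b.2) (hord _ b.2 fun e => hb1 (Subtype.ext e))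
    obtain ⟨e⟩ := nonempty_equiv_of_four (T := (T : Subgroup G)) hT h4 h16 ht1 ht2
      (fun e => ha1 (Subtype.ext (e1.symm.trans e))) (fun e => hb1 (Subtype.ext (e2.symm.trans e)))
      (fun e => hba (Subtype.ext ((e2.symm.trans e.symm).trans e1)))
    exact hnorm (Cfsg.Agent.S0949.result T 2 le_rfl e fun N _ hN => by
      rw [eq_bot_iff, ← hO]; exact CfsgLib.Solvable.Cores.le_pPrimeCore (Nat.coprime_two_right.2 hN)).1
  · -- rank at least three
    have hA8 : 2 ^ 3 ≤ Nat.card A := hk ▸ Nat.pow_le_pow_right (by norm_num) hk3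
    have hAc : ∀ a ∈ A, ∀ b ∈ A, a * b = b * a := fun a ha b hb => hT _ (hAle ha) _ (hAle hb)
    have hsolv : ∀ a ∈ A, a ≠ 1 → Group.IsSolvable ↥(centralizer ({a} : Set G)) :=
      fun a ha ha1 => hC a (hAle ha) (hord a ha ha1)
    obtain ⟨hWodd, -⟩ := complete hAc hA2 hA8 hsolv
    have hTA : normalizer ((T : Subgroup G) : Set G) ≤ normalizer (A : Set G) := fun g hg =>
      mem_normalizer_fintype fun a ha => by
        obtain ⟨haT, ha2⟩ := (memA a).1 ha
        refine (memA _).2 ⟨(mem_normalizer_iff.1 hg a).1 haT, ?_⟩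
        rw [show g * a * g⁻¹ * (g * a * g⁻¹) = g * (a * a) * g⁻¹ by group, ha2, mul_one, mul_inv_cancel]
    obtain ⟨K, hK, hNK, hCK⟩ : ∃ K : Subgroup G, ((K = ⊤) → (T : Subgroup G).Normal) ∧
        normalizer ((T : Subgroup G) : Set G) ≤ K ∧ ∀ a ∈ A, a ≠ 1 → coreC a ≤ K := by
      by_cases hW : closureW A = ⊥
      · exact ⟨_, fun h => normalizer_eq_top_iff.1 h, le_rfl,
          fun a ha ha1 => ((coreC_le_closureW ha ha1).trans hW.le).trans bot_le⟩
      · refine ⟨normalizer (closureW A : Set G), fun h => absurd ?_ hW,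
          hTA.trans (normalizer_closureW A), fun a ha ha1 => (coreC_le_closureW ha ha1).trans le_normalizer⟩
        haveI := normalizer_eq_top_iff.1 h
        exact eq_bot_iff.2 ((CfsgLib.Solvable.Cores.le_pPrimeCore (Nat.coprime_two_right.2 hWodd)).trans hO.le)
    rcases eq_or_ne K ⊤ with hK1 | hK1
    · exact hnorm (hK hK1)
    exfalso
    have hu : ∀ a ∈ (T : Subgroup G), orderOf a = 2 → a ∈ A ∧ a ≠ 1 := fun a ha hao =>
      ⟨(memA a).2 ⟨ha, by rw [← pow_two, ← hao, pow_orderOf_eq_one]⟩, fun e => by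
        rw [e, orderOf_one] at hao; omega⟩
    have heven : 2 ∣ Nat.card G := by
      refine Dvd.dvd.trans ?_ (card_subgroup_dvd_card A)
      exact hk ▸ dvd_pow_self 2 (by omega)
    have hSE : Cfsg.IsStronglyEmbedded K := se_of_centralizers T heven hK1 hNK fun a haT hao => by
      obtain ⟨haA, ha1⟩ := hu a haT hao
      have hTa : (T : Subgroup G) ≤ centralizer ({a} : Set G) := fun t ht =>
        mem_centralizer_singleton_iff.2 (hT t ht a haT)
      haveI := hsolv a haA ha1
      exact centralizer_le_of_closed T hTa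
        (Cfsg.Agent.S0018.result 2 (T.subtype hTa) ⟨⟨fun x y => Subtype.ext (Subtype.ext
          (hT _ (mem_subgroupOf.1 x.2) _ (mem_subgroupOf.1 y.2)))⟩⟩) (hCK a haA ha1) hNK
    haveI : Nontrivial A := Finite.one_lt_card_iff_nontrivial.1 (by omega)
    obtain ⟨a, ha1⟩ := exists_ne (1 : A)
    obtain ⟨b, hb1, hba⟩ : ∃ b : A, b ≠ 1 ∧ b ≠ a := by
      by_contra hno
      push Not at hno
      have : Nat.card A ≤ Nat.card Bool := Nat.card_le_card_of_injective (fun x => decide (x = 1))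
        fun x y hxy => by
          simp only [decide_eq_decide] at hxy
          by_cases hx : x = 1
          · rw [hx, hxy.1 hx]
          · rw [hno x hx, hno y fun e => hx (hxy.2 e)]
      rw [show Nat.card Bool = 2 by simp] at this
      omega
    have hao := hord _ a.2 fun e => ha1 (Subtype.ext e)
    have hbo := hord _ b.2 fun e => hb1 (Subtype.ext e)
    obtain ⟨L, -, -, -, h⟩ := bender_cases (hM G K hSE) hO T hao hbo (hAc _ a.2 _ b.2)
      (fun e => hba (Subtype.ext e.symm))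
    have hz : Nat.card (center ↥(T : Subgroup G)) = Nat.card T := by
      rw [(eq_top_iff' _).2 fun x => Subgroup.mem_center_iff.2 fun y => Subtype.ext (hT _ y.2 _ x.2), card_top]
    rcases h with h | ⟨r, hr, h1, h2⟩ | ⟨E, _, _, l, hl, -, -, h1, h2⟩
    · obtain ⟨t, ht, hta⟩ := hsq _ (hAle a.2) hao
      exact ha1 (Subtype.ext (hta.symm.trans (h t ht)))
    · rw [hz, h1] at h2; nlinarith
    · rw [hz, h1] at h2
      have h4' := Nat.pow_le_pow_right (show 0 < 2 by norm_num) hl
      have h16 : (2 ^ l) ^ 3 = 2 ^ l * (2 ^ l * 2 ^ l) := by ring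
      generalize 2 ^ l = r at *
      nlinarith

/-- Solvability from abelian Sylow subgroups whose involutions are squares. -/
theorem solvable_of_abelian [Finite G] (hM : BenderHyp.{u}) (T : Sylow 2 G)
    (hT : ∀ x ∈ (T : Subgroup G), ∀ y ∈ (T : Subgroup G), x * y = y * x)
    (h4 : ∀ x ∈ (T : Subgroup G), x ^ 4 = 1)
    (hsq : ∀ a ∈ (T : Subgroup G), orderOf a = 2 → ∃ t ∈ (T : Subgroup G), t * t = a)
    (hC : ∀ a ∈ (T : Subgroup G), orderOf a = 2 →
      a ∈ center G ∨ Group.IsSolvable ↥(centralizer ({a} : Set G))) :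
    Group.IsSolvable G := by
  classical
  haveI : Fact (Nat.Prime 2) := ⟨Nat.prime_two⟩
  haveI hTc : IsMulCommutative ↥(T : Subgroup G) := ⟨⟨fun x y => Subtype.ext (hT _ x.2 _ y.2)⟩⟩
  set Y := Cfsg.pResidual 2 G with hY
  haveI hYn : Y.Normal := inferInstance
  set N := normalizer ((T : Subgroup G) : Set G) with hN
  set T1 := (T : Subgroup G) ⊓ Y with hT1
  have hfocal : T1 = ⁅(T : Subgroup G), N⁆ := Cfsg.Agent.S0075.result T hTc
  -- squares inside `T1`
  have hroot : ∀ a ∈ T1, ∀ t ∈ (T : Subgroup G), orderOf a = 2 → t * t = a → ∃ t' ∈ T1, t' * t' = a := by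
    intro a ha t ht hao hta
    haveI hn : ((T : Subgroup G).subgroupOf N).Normal := normal_subgroupOf_of_le_normalizer le_rfl
    have hTN : (T : Subgroup G) ≤ N := le_normalizer
    have hcomm : IsMulCommutative ↥((T : Subgroup G).subgroupOf N) :=
      ⟨⟨fun x y => Subtype.ext (Subtype.ext (hT _ (mem_subgroupOf.1 x.2) _ (mem_subgroupOf.1 y.2)))⟩⟩
    have hhall : Nat.Coprime (Nat.card ↥((T : Subgroup G).subgroupOf N)) ((T : Subgroup G).subgroupOf N).index := by
      obtain ⟨j, hj⟩ := T.2.exists_card_eq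
      rw [Nat.card_congr (subgroupOfEquivOfLe hTN).toEquiv, hj]
      refine Nat.Coprime.pow_left j ((Nat.prime_two.coprime_iff_not_dvd).2 fun h => T.not_dvd_index ?_)
      exact h.trans (relIndex_dvd_index_of_le hTN)
    obtain ⟨h1, h2, h3⟩ := CfsgLib.Fusion.Abelian.normal_hall_decomp _ hcomm hhall
    have hmap : ∀ x : N, x ∈ ⁅(T : Subgroup G).subgroupOf N, (⊤ : Subgroup N)⁆ ↔ (x : G) ∈ T1 := fun x => by
      rw [hfocal]
      have : (⁅(T : Subgroup G).subgroupOf N, (⊤ : Subgroup N)⁆).map N.subtype = ⁅(T : Subgroup G), N⁆ := by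
        rw [map_commutator, map_subgroupOf_eq_of_le hTN, ← MonoidHom.range_eq_map, range_subtype]
      rw [← this]
      exact ⟨fun hx => mem_map_of_mem _ hx, fun ⟨y, hy, hyx⟩ => Subtype.ext hyx ▸ hy⟩
    haveI : ((T : Subgroup G).subgroupOf N ⊓ center N).Normal := inferInstance
    have hmem : (⟨t, hTN ht⟩ : N) ∈ (_root_.commutator N ⊓ (T : Subgroup G).subgroupOf N) ⊔
        (center N ⊓ (T : Subgroup G).subgroupOf N) := h3.symm ▸ ht
    obtain ⟨t1, ht1, c, hc, htc⟩ := mem_sup_of_normal_left.1 hmem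
    have hcc : (c : N) * c = 1 := by
      have e : (⟨a, hTN ha.1⟩ : N) = t1 * t1 * (c * c) := by
        rw [← (show Commute c t1 from (Subgroup.mem_center_iff.1 hc.1 t1).symm).mul_mul_mul_comm t1 c, htc]
        exact Subtype.ext hta.symm
      have hin : c * c ∈ (_root_.commutator N ⊓ (T : Subgroup G).subgroupOf N) ⊓
          (center N ⊓ (T : Subgroup G).subgroupOf N) := by
        refine ⟨?_, mul_mem hc hc⟩
        have ha' : (⟨a, hTN ha.1⟩ : N) ∈ _root_.commutator N ⊓ (T : Subgroup G).subgroupOf N :=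
          h1 ▸ (hmap _).2 ha
        rw [e] at ha'
        exact ((mul_mem_cancel_left (mul_mem ht1 ht1)).1 ha')
      rw [h2] at hin
      exact mem_bot.1 hin
    refine ⟨t1, (hmap t1).1 (h1.symm ▸ ht1), ?_⟩
    have : ((t1 * c : N) : G) = t := congrArg Subtype.val htc
    rw [← hta, ← this]
    show (t1 : G) * t1 = (t1 * c : N).1 * (t1 * c : N).1
    rw [← Subgroup.coe_mul, ← Subgroup.coe_mul,
      (show Commute c t1 from (Subgroup.mem_center_iff.1 hc.1 t1).symm).mul_mul_mul_comm t1 c, hcc, mul_one]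
  -- no central involution in `T1`
  have hnc : ∀ a ∈ T1, orderOf a = 2 → a ∉ center G := by
    intro a ha hao hac
    have hle : T1 ≤ _root_.commutator G := hfocal ▸ commutator_mono le_top le_top
    have h := CfsgLib.Fusion.Abelian.inf_commutator_inf_center (T : Subgroup G) hTc T.card_coprime_index
    have : a = 1 := mem_bot.1 (h.le ⟨⟨ha.1, hle ha⟩, hac⟩)
    rw [this, orderOf_one] at hao
    omega
  -- pass to `Y` modulo its odd core
  haveI := CfsgLib.Solvable.Cores.pPrimeCore_normal (G := ↥Y) 2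
  set π := QuotientGroup.mk' (Cfsg.pPrimeCore 2 ↥Y) with hπ
  obtain ⟨TY, hTYmap⟩ := CfsgLib.NT.SylowCount.exists_sylow_inf T Y
  have hTY : (TY : Subgroup ↥Y) = (T : Subgroup G).subgroupOf Y := by
    rw [← comap_map_eq_self_of_injective (subtype_injective Y) (TY : Subgroup ↥Y), hTYmap]
    ext x
    simp [mem_subgroupOf]
  let TX : Sylow 2 (↥Y ⧸ Cfsg.pPrimeCore 2 ↥Y) := TY.mapSurjective (QuotientGroup.mk'_surjective _)
  have hTX : (TX : Subgroup (↥Y ⧸ Cfsg.pPrimeCore 2 ↥Y)) = (TY : Subgroup ↥Y).map π := rfl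
  have hmemY : ∀ y : Y, y ∈ (TY : Subgroup ↥Y) → (y : G) ∈ (T : Subgroup G) := fun y hy => by
    rw [hTY] at hy; exact hy
  have hlift : ∀ y : Y, y ∈ (TY : Subgroup ↥Y) → π y = 1 → y = 1 := fun y hy h1 => by
    obtain ⟨i, hi⟩ := TY.2 ⟨y, hy⟩
    exact orderOf_eq_one_iff.1 (Nat.eq_one_of_dvd_coprimes
      ((CfsgLib.Solvable.Cores.coprime_card_pPrimeCore (G := ↥Y) 2).symm.pow_left i)
      (orderOf_dvd_of_pow_eq_one (congrArg Subtype.val hi))
      (Subgroup.orderOf_dvd_natCard _ ((QuotientGroup.eq_one_iff y).1 h1)))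
  have hinv : ∀ x ∈ (TX : Subgroup (↥Y ⧸ Cfsg.pPrimeCore 2 ↥Y)), orderOf x = 2 →
      ∃ y : Y, y ∈ (TY : Subgroup ↥Y) ∧ π y = x ∧ orderOf (y : G) = 2 := by
    rw [hTX]
    rintro _ ⟨y, hy, rfl⟩ hxo
    refine ⟨y, hy, rfl, orderOf_eq_prime ?_ fun e => ?_⟩
    · refine congrArg Subtype.val (hlift (y ^ 2) (pow_mem hy 2) ?_)
      have e := pow_orderOf_eq_one (π y)
      rw [hxo] at e
      rw [map_pow, e]
    · rw [show y = 1 from Subtype.ext e, map_one, orderOf_one] at hxo
      omega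
  have hX : Group.IsSolvable (↥Y ⧸ Cfsg.pPrimeCore 2 ↥Y) := by
    refine solvable_of_core_bot hM CfsgLib.Coprime.OneClassInvolutions.pPrimeCore_quotient_self TX ?_ ?_ ?_ ?_
    · rintro _ ⟨x, hx, rfl⟩ _ ⟨y, hy, rfl⟩
      rw [← map_mul, ← map_mul, show x * y = y * x from Subtype.ext (hT _ (hmemY x hx) _ (hmemY y hy))]
    · rintro _ ⟨x, hx, rfl⟩
      rw [← map_pow, show x ^ 4 = 1 from Subtype.ext (h4 _ (hmemY x hx)), map_one]
    · intro x hx hxo
      obtain ⟨y, hy, rfl, hyo⟩ := hinv x hx hxo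
      obtain ⟨t, ht, hty⟩ := hsq _ (hmemY y hy) hyo
      obtain ⟨t', ht', ht'y⟩ := hroot _ ⟨hmemY y hy, y.2⟩ t ht hyo hty
      refine ⟨π ⟨t', ht'.2⟩, mem_map_of_mem _ (by rw [hTY]; exact ht'.1), ?_⟩
      rw [← map_mul]
      exact congrArg π (Subtype.ext ht'y)
    · intro x hx hxo
      obtain ⟨y, hy, rfl, hyo⟩ := hinv x hx hxo
      have hs := (hC _ (hmemY y hy) hyo).resolve_left (hnc _ ⟨hmemY y hy, y.2⟩ hyo)
      refine isSolvable_centralizer_quotient _
        (Nat.coprime_two_right.1 (CfsgLib.Solvable.Cores.coprime_card_pPrimeCore 2))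
        (Subtype.ext (show (y : G) ^ 2 = 1 from hyo ▸ pow_orderOf_eq_one _)) ?_
      refine Group.isSolvable_of_isSolvable_injective (f := (Y.subtype.comp
        (centralizer ({y} : Set ↥Y)).subtype).codRestrict (centralizer ({(y : G)} : Set G)) fun c =>
          mem_centralizer_singleton_iff.2 (congrArg Subtype.val (mem_centralizer_singleton_iff.1 c.2)))
        fun c d e => Subtype.ext (Subtype.ext (congrArg Subtype.val e :))
  have hYs : Group.IsSolvable ↥Y := by
    refine CfsgLib.Sectional.OddCoreA8.isSolvable_of_ker π ?_ hX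
    rw [hπ, QuotientGroup.ker_mk']
    exact Cfsg.Agent.S0205.result (Nat.coprime_two_right.1 (CfsgLib.Solvable.Cores.coprime_card_pPrimeCore 2))
  refine CfsgLib.Sectional.OddCoreA8.isSolvable_of_ker (QuotientGroup.mk' Y) ?_ ?_
  · rw [QuotientGroup.ker_mk']; exact hYs
  · haveI := (CfsgLib.Fusion.Basic.isPGroup_quotient_pResidual (G := G) (p := 2)).isNilpotent
    infer_instance

end CfsgLib.Involution.UnitarySylowGroup
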