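import Cfsg.Agent.Lib.OddOrder.SCNInvariant
import Cfsg.Agent.Lib.Coprime.Generation
import Cfsg.Agent.Lib.Sectional.OddCoreA8
import Cfsg.Agent.Lib.LocalEven.StronglyEmbedded
import Cfsg.Agent.Lib.Solvable.FPFOperators.PLength
import Cfsg.Agent.S0205
import Cfsg.Agent.S0217
import Cfsg.Prelude.Def_CaseTheorems
import Cfsg.Prelude.Def_Involutions

/-!
The odd cores of the centralisers of involutions as a signalizer functor, and small tools on fusion.
-/

set_option autoImplicit false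
set_option linter.style.haveILetI false

namespace CfsgLib.Involution.UnitarySylowGroup

open Subgroup
open scoped commutatorElement

variable {G : Type*} [Group G]

/-- The odd core of a centraliser. -/
def coreC (a : G) : Subgroup G :=
  (Cfsg.pPrimeCore 2 ↥(centralizer ({a} : Set G))).map (centralizer ({a} : Set G)).subtype

theorem coreC_le (a : G) : coreC a ≤ centralizer ({a} : Set G) := map_subtype_le _

variable [Finite G]

theorem coreC_odd (a : G) : Odd (Nat.card (coreC a)) := by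
  rw [coreC, card_map_of_injective (subtype_injective _)]
  exact Nat.coprime_two_right.1 (CfsgLib.Solvable.Cores.coprime_card_pPrimeCore 2)

theorem coreC_normal (a : G) : centralizer ({a} : Set G) ≤ normalizer (coreC a : Set G) := by
  have h := le_normalizer_map (centralizer ({a} : Set G)).subtype (H := Cfsg.pPrimeCore 2 ↥(centralizer ({a} : Set G)))
  rw [normalizer_eq_top, ← MonoidHom.range_eq_map, range_subtype] at h
  exact h

/-- Odd normal subgroups of a centraliser are in the core. -/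
theorem le_coreC {a : G} {D : Subgroup G} (hD : D ≤ centralizer ({a} : Set G))
    (hn : centralizer ({a} : Set G) ≤ normalizer (D : Set G)) (ho : Odd (Nat.card D)) : D ≤ coreC a := by
  haveI : (D.subgroupOf (centralizer ({a} : Set G))).Normal := normal_subgroupOf_of_le_normalizer hn
  have h : D.subgroupOf (centralizer ({a} : Set G)) ≤ Cfsg.pPrimeCore 2 ↥(centralizer ({a} : Set G)) :=
    CfsgLib.Solvable.Cores.le_pPrimeCore (by
      rw [Nat.card_congr (subgroupOfEquivOfLe hD).toEquiv]; exact Nat.coprime_two_right.2 ho)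
  exact fun x hx => ⟨⟨x, hD hx⟩, h (show (⟨x, hD hx⟩ : centralizer ({a} : Set G)) ∈ D.subgroupOf _ from hx), rfl⟩

theorem conj_mem_coreC {a x : G} (g : G) (hx : x ∈ coreC a) : g * x * g⁻¹ ∈ coreC (g * a * g⁻¹) := by
  have hc : ∀ b c : G, c ∈ centralizer ({b} : Set G) → g * c * g⁻¹ ∈ centralizer ({g * b * g⁻¹} : Set G) := by
    intro b c h
    rw [mem_centralizer_singleton_iff] at h ⊢
    calc g * c * g⁻¹ * (g * b * g⁻¹) = g * (c * b) * g⁻¹ := by group
      _ = g * (b * c) * g⁻¹ := by rw [h]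
      _ = g * b * g⁻¹ * (g * c * g⁻¹) := by group
  set D := (coreC a).map (MulAut.conj g).toMonoidHom with hD
  have hle : D ≤ centralizer ({g * a * g⁻¹} : Set G) := by
    rintro _ ⟨c, hc', rfl⟩
    exact hc a c (coreC_le a hc')
  have hn : centralizer ({g * a * g⁻¹} : Set G) ≤ normalizer (D : Set G) := by
    intro k hk
    have hk' : g⁻¹ * k * g ∈ centralizer ({a} : Set G) := by
      rw [mem_centralizer_singleton_iff] at hk ⊢
      calc g⁻¹ * k * g * a = g⁻¹ * (k * (g * a * g⁻¹)) * g := by group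
        _ = g⁻¹ * (g * a * g⁻¹ * k) * g := by rw [hk]
        _ = a * (g⁻¹ * k * g) := by group
    refine mem_normalizer_fintype ?_
    rintro _ ⟨c, hc', rfl⟩
    refine ⟨g⁻¹ * k * g * c * (g⁻¹ * k * g)⁻¹, (mem_normalizer_iff.1 (coreC_normal a hk') c).1 hc', ?_⟩
    simp [MulAut.conj_apply]
    group
  refine le_coreC hle hn ?_ (mem_map_of_mem _ hx)
  rw [hD, card_map_of_injective (MulAut.conj g).injective]
  exact coreC_odd a

/-- The closure of the functor. -/
def closureW (A : Subgroup G) : Subgroup G := ⨆ a : {a : G // a ∈ A ∧ a ≠ 1}, coreC (a : G)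

theorem coreC_le_closureW {A : Subgroup G} {a : G} (ha : a ∈ A) (ha1 : a ≠ 1) : coreC a ≤ closureW A :=
  le_iSup (fun a : {a : G // a ∈ A ∧ a ≠ 1} => coreC (a : G)) ⟨a, ha, ha1⟩

theorem normalizer_closureW (A : Subgroup G) :
    normalizer (A : Set G) ≤ normalizer (closureW A : Set G) := by
  intro g hg
  refine mem_normalizer_fintype fun x hx => ?_
  have h : closureW A ≤ (closureW A).comap (MulAut.conj g).toMonoidHom := by
    refine iSup_le fun a y hy => ?_
    refine coreC_le_closureW ((mem_normalizer_iff.1 hg _).1 a.2.1) (fun h => a.2.2 ?_) (conj_mem_coreC g hy)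
    rwa [conj_eq_one_iff] at h
  exact h hx

theorem complete {A : Subgroup G} (hAc : ∀ a ∈ A, ∀ b ∈ A, a * b = b * a) (hA2 : ∀ a ∈ A, a ^ 2 = 1)
    (hA8 : 2 ^ 3 ≤ Nat.card A) (hsolv : ∀ a ∈ A, a ≠ 1 → Group.IsSolvable ↥(centralizer ({a} : Set G))) :
    Odd (Nat.card (closureW A)) ∧
      ∀ a ∈ A, a ≠ 1 → closureW A ⊓ centralizer ({a} : Set G) = coreC a := by
  haveI : Fact (Nat.Prime 2) := ⟨Nat.prime_two⟩
  have key : ∀ a ∈ A, a ≠ 1 → ∀ b ∈ A, b ≠ 1 → coreC a ⊓ centralizer ({b} : Set G) ≤ coreC b := by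
    intro a ha _ b hb hb1
    haveI := hsolv b hb hb1
    set X := centralizer ({b} : Set G) with hX
    have haX : a ∈ X := mem_centralizer_singleton_iff.2 (hAc a ha b hb)
    set D := (coreC a ⊓ X).subgroupOf X with hD
    have h1 : D ≤ Cfsg.pPrimeCore 2 ↥X := by
      refine CfsgLib.OddOrder.SCNInvariant.balance (zpowers (⟨a, haX⟩ : X)) D ?_ ?_ ?_ ?_
      · refine IsPGroup.to_le (K := zpowers (⟨a, haX⟩ : X)) ?_ le_rfl
        rintro ⟨_, i, rfl⟩
        refine ⟨1, Subtype.ext (Subtype.ext ?_)⟩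
        show (((⟨a, haX⟩ : X) ^ i : X) : G) ^ 2 ^ 1 = 1
        rw [pow_one, SubgroupClass.coe_zpow]
        exact hA2 _ (zpow_mem ha i)
      · intro d hd
        rw [mem_subgroupOf] at hd
        rw [Subgroup.mem_centralizer_iff]
        rintro _ ⟨i, rfl⟩
        refine Subtype.ext ?_
        show ((⟨a, haX⟩ : X) ^ i : X).1 * (d : G) = d * ((⟨a, haX⟩ : X) ^ i : X).1
        rw [SubgroupClass.coe_zpow]
        exact ((show Commute (d : G) a from mem_centralizer_singleton_iff.1 (coreC_le a hd.1)).zpow_right i).eq.symm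
      · rw [hD, Nat.card_congr (subgroupOfEquivOfLe inf_le_right).toEquiv]
        exact Nat.coprime_two_right.2 ((coreC_odd a).of_dvd_nat (card_dvd_of_le inf_le_left))
      · intro c hc
        have hca : (c : G) ∈ centralizer ({a} : Set G) := mem_centralizer_singleton_iff.2
          (congrArg Subtype.val (Subgroup.mem_centralizer_iff.1 hc _ (mem_zpowers _))).symm
        refine mem_normalizer_fintype fun d hd => ?_
        rw [SetLike.mem_coe, hD, mem_subgroupOf] at hd ⊢
        exact ⟨(mem_normalizer_iff.1 (coreC_normal a hca) _).1 hd.1, (c * d * c⁻¹).2⟩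
    rintro x ⟨hx, hxb⟩
    exact ⟨⟨x, hxb⟩, h1 (show (⟨x, hxb⟩ : X) ∈ D from ⟨hx, hxb⟩), rfl⟩
  obtain ⟨h1, h2⟩ := Cfsg.Agent.S0217.result (p := 2) A hAc hA2 hA8 coreC (fun a _ _ => coreC_le a)
    (fun a _ _ => fun h => Nat.not_even_iff_odd.2 (coreC_odd a) (even_iff_two_dvd.2 h))
    (fun a ha _ b hb x hx => (mem_normalizer_iff.1
      (coreC_normal a (mem_centralizer_singleton_iff.2 (hAc b hb a ha))) x).1 hx)
    (fun a _ _ => Cfsg.Agent.S0205.result (coreC_odd a)) key
  exact ⟨Nat.odd_iff.2 (by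
    have : ¬ 2 ∣ Nat.card (closureW A) := h1
    omega), h2⟩

/-- A non-cyclic subgroup already generates the closure. -/
theorem closureW_le_of_le {A B : Subgroup G} (hAc : ∀ a ∈ A, ∀ b ∈ A, a * b = b * a) (hA2 : ∀ a ∈ A, a ^ 2 = 1)
    (hA8 : 2 ^ 3 ≤ Nat.card A) (hsolv : ∀ a ∈ A, a ≠ 1 → Group.IsSolvable ↥(centralizer ({a} : Set G)))
    (hB : B ≤ A) (hBnc : ¬ IsCyclic B) : closureW A ≤ closureW B := by
  haveI : Fact (Nat.Prime 2) := ⟨Nat.prime_two⟩
  obtain ⟨hodd, hfix⟩ := complete hAc hA2 hA8 hsolv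
  haveI : IsMulCommutative B := ⟨⟨fun x y => Subtype.ext (hAc _ (hB x.2) _ (hB y.2))⟩⟩
  have hn : B ≤ normalizer (closureW A : Set G) := (hB.trans le_normalizer).trans (normalizer_closureW A)
  have hBp : IsPGroup 2 B := fun b => ⟨1, Subtype.ext (by rw [pow_one, SubgroupClass.coe_pow]; exact hA2 _ (hB b.2))⟩
  obtain ⟨j, hj⟩ := hBp.exists_card_eq
  rw [← CfsgLib.Coprime.iSup_centralizer_singleton hBnc hn (hj ▸ (Nat.coprime_two_left.2 hodd).pow_left j)]
  exact iSup₂_le fun b ⟨hb, hb1⟩ => (hfix b (hB hb) hb1).trans_le (coreC_le_closureW hb hb1)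

/-- Centralisers of the involutions of a Sylow subgroup and its normaliser give strong embedding. -/
theorem se_of_centralizers (S : Sylow 2 G) (heven : 2 ∣ Nat.card G) {K : Subgroup G} (hK : K ≠ ⊤)
    (hN : normalizer ((S : Subgroup G) : Set G) ≤ K)
    (hC : ∀ u ∈ (S : Subgroup G), orderOf u = 2 → centralizer ({u} : Set G) ≤ K) :
    Cfsg.IsStronglyEmbedded K := by
  haveI : Fact (Nat.Prime 2) := ⟨Nat.prime_two⟩
  have hSK : (S : Subgroup G) ≤ K := le_normalizer.trans hN
  obtain ⟨-, -, hmove⟩ := CfsgLib.LocalEven.StronglyEmbedded.of_centralizer (p := 2) hK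
    (S := (S : Subgroup G)) ⟨hSK, S.2, fun U _ hU hle => S.3 hU hle⟩ hC hN
  refine ⟨hK, even_iff_two_dvd.2 ((S.dvd_card_of_dvd_card heven).trans (card_dvd_of_le hSK)), fun g hg => ?_⟩
  by_contra hodd
  rw [Nat.not_odd_iff_even, even_iff_two_dvd] at hodd
  obtain ⟨⟨u, huK, hug⟩, hu⟩ := exists_prime_orderOf_dvd_card' 2 hodd
  rw [← Subgroup.orderOf_coe] at hu
  obtain ⟨v, hv, rfl⟩ := hug
  exact hg (hmove v g hv (((MulAut.conj g).orderOf_eq v).symm.trans hu) huK)

/-- Frattini decomposition when `S ⊔ O` is normal. -/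
theorem closed_decomp (S : Sylow 2 G) (h : ((S : Subgroup G) ⊔ Cfsg.pPrimeCore 2 G).Normal) (g : G) :
    ∃ o ∈ Cfsg.pPrimeCore 2 G, ∃ n ∈ normalizer ((S : Subgroup G) : Set G), g = o * n := by
  haveI : Fact (Nat.Prime 2) := ⟨Nat.prime_two⟩
  haveI := h
  haveI : (Cfsg.pPrimeCore 2 G).Normal := CfsgLib.Solvable.Cores.pPrimeCore_normal 2
  have h1 := Sylow.normalizer_sup_eq_top' (N := (S : Subgroup G) ⊔ Cfsg.pPrimeCore 2 G) S le_sup_left
  have h2 : normalizer ((S : Subgroup G) : Set G) ⊔ Cfsg.pPrimeCore 2 G = ⊤ :=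
    eq_top_iff.2 (h1.ge.trans (sup_le le_sup_left (sup_le (le_normalizer.trans le_sup_left) le_sup_right)))
  obtain ⟨o, ho, n, hn, hg⟩ := mem_sup_of_normal_left.1 ((sup_comm _ _).trans h2 ▸ mem_top g)
  exact ⟨o, ho, n, hn, hg.symm⟩

/-- A centraliser which is closed lies in any subgroup containing its core and the normaliser. -/
theorem centralizer_le_of_closed (S : Sylow 2 G) {a : G} (hSa : (S : Subgroup G) ≤ centralizer ({a} : Set G))
    (h : (((S.subtype hSa : Sylow 2 ↥(centralizer ({a} : Set G))) : Subgroup ↥(centralizer ({a} : Set G))) ⊔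
      Cfsg.pPrimeCore 2 ↥(centralizer ({a} : Set G))).Normal)
    {K : Subgroup G} (hO : coreC a ≤ K) (hN : normalizer ((S : Subgroup G) : Set G) ≤ K) :
    centralizer ({a} : Set G) ≤ K := by
  intro g hg
  obtain ⟨o, ho, n, hn, hgn⟩ := closed_decomp (S.subtype hSa) h ⟨g, hg⟩
  have hn' : (n : G) ∈ normalizer ((S : Subgroup G) : Set G) := by
    refine mem_normalizer_fintype fun s hs => ?_
    exact (mem_normalizer_iff.1 hn ⟨s, hSa hs⟩).1 hs
  rw [show g = (o : G) * (n : G) from congrArg Subtype.val hgn]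
  exact mul_mem (hO ⟨o, ho, rfl⟩) (hN hn')

omit [Finite G] in
theorem isSolvable_of_closed [Finite G] (S : Sylow 2 G) (h : ((S : Subgroup G) ⊔ Cfsg.pPrimeCore 2 G).Normal) :
    Group.IsSolvable G := by
  haveI : Fact (Nat.Prime 2) := ⟨Nat.prime_two⟩
  set O := Cfsg.pPrimeCore 2 G with hO
  set M := (S : Subgroup G) ⊔ O with hM
  haveI := h
  haveI : O.Normal := CfsgLib.Solvable.Cores.pPrimeCore_normal 2
  have h1 : Group.IsSolvable M := by
    haveI : Group.IsNilpotent ↥(S : Subgroup G) := S.2.isNilpotent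
    haveI : Group.IsSolvable ↥O :=
      Cfsg.Agent.S0205.result (Nat.coprime_two_right.1 (CfsgLib.Solvable.Cores.coprime_card_pPrimeCore 2))
    haveI : Group.IsSolvable ↥((QuotientGroup.mk' O).comp M.subtype).range := by
      rw [show ((QuotientGroup.mk' O).comp M.subtype).range = (S : Subgroup G).map (QuotientGroup.mk' O) by
        rw [MonoidHom.range_comp, range_subtype, hM, Subgroup.map_sup, QuotientGroup.map_mk'_self, sup_bot_eq]]
      haveI : Group.IsNilpotent ↥((S : Subgroup G).map (QuotientGroup.mk' O)) := (S.2.map _).isNilpotent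
      infer_instance
    refine CfsgLib.Sectional.OddCoreA8.isSolvable_of_ker ((QuotientGroup.mk' O).comp M.subtype).rangeRestrict ?_ ‹_›
    rw [MonoidHom.ker_rangeRestrict, ← MonoidHom.comap_ker, QuotientGroup.ker_mk']
    haveI : Group.IsSolvable ↥(O.subgroupOf M) := Group.isSolvable_of_isSolvable_injective
      (f := (subgroupOfEquivOfLe (le_sup_right : O ≤ M)).toMonoidHom) (MulEquiv.injective _)
    exact ‹Group.IsSolvable ↥(O.subgroupOf M)›
  haveI := h1
  have h2 : Group.IsSolvable (G ⧸ M) := Cfsg.Agent.S0205.result (by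
    refine Nat.not_even_iff_odd.1 fun he => S.not_dvd_index ?_
    exact ((even_iff_two_dvd.1 he).trans (dvd_of_eq (index_eq_card M).symm)).trans (index_dvd_of_le le_sup_left))
  refine CfsgLib.Sectional.OddCoreA8.isSolvable_of_ker (QuotientGroup.mk' M) ?_ h2
  rw [QuotientGroup.ker_mk']
  exact h1

theorem pLength_of_closed (S : Sylow 2 G) (h : ((S : Subgroup G) ⊔ Cfsg.pPrimeCore 2 G).Normal) :
    Cfsg.PLengthLE 2 1 G := by
  haveI : Fact (Nat.Prime 2) := ⟨Nat.prime_two⟩
  haveI := h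
  haveI : (Cfsg.pPrimeCore 2 G).Normal := CfsgLib.Solvable.Cores.pPrimeCore_normal 2
  set U0 := (Cfsg.upperPSeries 2 G 0).1 with hU0
  set U1 := (Cfsg.upperPSeries 2 G 1).1 with hU1
  set U2 := (Cfsg.upperPSeries 2 G 2).1 with hU2
  have e1 : Cfsg.pPrimeCore 2 G ≤ U1 := by
    rw [hU1, show (1 : ℕ) = 2 * 0 + 1 from rfl, CfsgLib.Solvable.FPFOperators.upper_odd]
    intro x hx
    haveI : ((Cfsg.pPrimeCore 2 G).map (QuotientGroup.mk' (Cfsg.upperPSeries 2 G (2 * 0)).1)).Normal :=
      Normal.map inferInstance _ (QuotientGroup.mk'_surjective _)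
    exact CfsgLib.Solvable.Cores.le_pPrimeCore
      ((CfsgLib.Solvable.Cores.coprime_card_pPrimeCore 2).coprime_dvd_left (card_map_dvd _ _)) (mem_map_of_mem _ hx)
  have e2 : (S : Subgroup G) ⊔ Cfsg.pPrimeCore 2 G ≤ U2 := by
    rw [hU2, (CfsgLib.Solvable.FPFOperators.upper_even (p := 2) (G := G) 0 :
      (Cfsg.upperPSeries 2 G 2).1 = _)]
    have hO : (Cfsg.pPrimeCore 2 G).map (QuotientGroup.mk' (Cfsg.upperPSeries 2 G (2 * 0 + 1)).1) = ⊥ :=
      (Subgroup.map_eq_bot_iff _).2 (by rw [QuotientGroup.ker_mk']; exact e1)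
    haveI hn : (((S : Subgroup G) ⊔ Cfsg.pPrimeCore 2 G).map
        (QuotientGroup.mk' (Cfsg.upperPSeries 2 G (2 * 0 + 1)).1)).Normal :=
      Normal.map h _ (QuotientGroup.mk'_surjective _)
    refine map_le_iff_le_comap.1 (CfsgLib.Solvable.Cores.le_pCore ?_)
    rw [Subgroup.map_sup, hO, sup_bot_eq]
    exact S.2.map _
  show (Cfsg.upperPSeries 2 G (2 * 1 + 1)).1 = ⊤
  rw [CfsgLib.Solvable.FPFOperators.upper_odd, eq_top_iff]
  intro x _
  have htop : Cfsg.pPrimeCore 2 (G ⧸ (Cfsg.upperPSeries 2 G (2 * 1)).1) = ⊤ := by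
    refine eq_top_iff.2 (CfsgLib.Solvable.Cores.le_pPrimeCore ?_)
    rw [card_top, ← index_eq_card]
    exact (Nat.coprime_two_right.2 (Nat.not_even_iff_odd.1 fun he =>
      S.not_dvd_index (even_iff_two_dvd.1 he))).coprime_dvd_left (index_dvd_of_le (le_sup_left.trans e2))
  rw [mem_comap, htop]
  exact mem_top _

/-- Burnside fusion for elements centralised by a Sylow subgroup. -/
theorem fusion (S : Sylow 2 G) {a b g : G} (ha : (S : Subgroup G) ≤ centralizer ({a} : Set G))
    (hb : (S : Subgroup G) ≤ centralizer ({b} : Set G)) (hg : g * a * g⁻¹ = b) :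
    ∃ n ∈ normalizer ((S : Subgroup G) : Set G), n * a * n⁻¹ = b := by
  haveI : Fact (Nat.Prime 2) := ⟨Nat.prime_two⟩
  have hgS : ((g • S : Sylow 2 G) : Subgroup G) ≤ centralizer ({b} : Set G) := by
    rw [Sylow.coe_subgroup_smul]
    rintro _ ⟨s, hs, rfl⟩
    rw [← hg, mem_centralizer_singleton_iff]
    show g * s * g⁻¹ * (g * a * g⁻¹) = g * a * g⁻¹ * (g * s * g⁻¹)
    have h := mem_centralizer_singleton_iff.1 (ha hs)
    calc g * s * g⁻¹ * (g * a * g⁻¹) = g * (s * a) * g⁻¹ := by group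
      _ = g * (a * s) * g⁻¹ := by rw [h]
      _ = g * a * g⁻¹ * (g * s * g⁻¹) := by group
  obtain ⟨c, hc⟩ := MulAction.exists_smul_eq ↥(centralizer ({b} : Set G)) ((g • S).subtype hgS) (S.subtype hb)
  rw [Sylow.smul_subtype] at hc
  refine ⟨(c : G) * g, Sylow.smul_eq_iff_mem_normalizer.1 (by rw [mul_smul]; exact Sylow.subtype_injective hc), ?_⟩
  have h := mem_centralizer_singleton_iff.1 c.2
  calc (c : G) * g * a * ((c : G) * g)⁻¹ = (c : G) * (g * a * g⁻¹) * (c : G)⁻¹ := by group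
    _ = b := by rw [hg, h, mul_inv_cancel_right]

/-- An element centralised by a Sylow `2`-subgroup is not moved within a coset of central elements. -/
theorem fix_of_odd (S : Sylow 2 G) {a c : G} (hSa : (S : Subgroup G) ≤ centralizer ({a} : Set G))
    (hc : c ∈ center G) (hc2 : c ^ 2 = 1) {g : G} (hg : g * a * g⁻¹ = a * c)
    (hSac : (S : Subgroup G) ≤ centralizer ({a * c} : Set G)) : c = 1 := by
  haveI : Fact (Nat.Prime 2) := ⟨Nat.prime_two⟩
  obtain ⟨n, hn, hna⟩ := fusion S hSa hSac hg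
  set N := normalizer ((S : Subgroup G) : Set G) with hN
  haveI : ((S : Subgroup G).subgroupOf N).Normal := normal_subgroupOf_of_le_normalizer le_rfl
  set k := ((S : Subgroup G).subgroupOf N).index with hk
  have hodd : Odd k := Nat.not_even_iff_odd.1 fun he => S.not_dvd_index ((even_iff_two_dvd.1 he).trans
    (by rw [hk]; exact relIndex_dvd_index_of_le le_normalizer))
  have hi : ∀ i : ℕ, n ^ i * a * (n ^ i)⁻¹ = a * c ^ i := by
    intro i
    induction i with
    | zero => simp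
    | succ i ih =>
      calc n ^ (i + 1) * a * (n ^ (i + 1))⁻¹ = n * (n ^ i * a * (n ^ i)⁻¹) * n⁻¹ := by rw [pow_succ']; group
        _ = n * a * n⁻¹ * (n * c ^ i * n⁻¹) := by rw [ih]; group
        _ = a * c * c ^ i := by
          rw [hna, Subgroup.mem_center_iff.1 (pow_mem hc i) n, mul_inv_cancel_right]
        _ = a * c ^ (i + 1) := by rw [mul_assoc, ← pow_succ']
  have hnk : n ^ k ∈ (S : Subgroup G) := ((S : Subgroup G).subgroupOf N).pow_index_mem ⟨n, hn⟩
  have h := hi k
  rw [mem_centralizer_singleton_iff.1 (hSa hnk), mul_inv_cancel_right] at h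
  obtain ⟨j, hj⟩ := hodd
  rw [hj, pow_succ, pow_mul, hc2, one_pow, one_mul] at h
  exact left_eq_mul.1 h

omit [Finite G] in
/-- A centraliser in a central quotient is solvable with the centraliser. -/
theorem isSolvable_preimage {Z : Subgroup G} [Z.Normal] (hZ : Z ≤ center G) (w : G)
    (h : Group.IsSolvable ↥(centralizer ({w} : Set G))) :
    Group.IsSolvable ↥(centralizer ({(w : G ⧸ Z)} : Set (G ⧸ Z))) := by
  set π := QuotientGroup.mk' Z
  set P := (centralizer ({(w : G ⧸ Z)} : Set (G ⧸ Z))).comap π with hP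
  have hmem : ∀ g : ↥P, (g : G) * w * (g : G)⁻¹ * w⁻¹ ∈ Z := fun g => by
    have hg : (π g) * π w = π w * π g := mem_centralizer_singleton_iff.1 g.2
    refine (QuotientGroup.eq_one_iff _).1 ?_
    show π ((g : G) * w * (g : G)⁻¹ * w⁻¹) = 1
    rw [map_mul, map_mul, map_mul, map_inv, map_inv, hg, mul_inv_cancel_right, mul_inv_cancel]
  haveI : IsMulCommutative Z := ⟨⟨fun x y => Subtype.ext (Subgroup.mem_center_iff.1 (hZ y.2) x)⟩⟩
  let φ : ↥P →* ↥Z := MonoidHom.mk' (fun g => ⟨_, hmem g⟩) fun g g' => Subtype.ext (by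
    show (g : G) * g' * w * ((g : G) * g')⁻¹ * w⁻¹ =
      (g : G) * w * (g : G)⁻¹ * w⁻¹ * ((g' : G) * w * (g' : G)⁻¹ * w⁻¹)
    rw [Subgroup.mem_center_iff.1 (hZ (hmem g')) _]
    calc (g : G) * g' * w * ((g : G) * g')⁻¹ * w⁻¹ =
        (g : G) * ((g' : G) * w * (g' : G)⁻¹ * w⁻¹) * (w * (g : G)⁻¹ * w⁻¹) := by group
      _ = _ := by rw [Subgroup.mem_center_iff.1 (hZ (hmem g')) (g : G)]; group)
  haveI hPs : Group.IsSolvable ↥P := by
    refine CfsgLib.Sectional.OddCoreA8.isSolvable_of_ker φ ?_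
      (Group.isSolvable_of_comm fun x y => mul_comm' x y)
    refine Group.isSolvable_of_isSolvable_injective (f := (P.subtype.comp φ.ker.subtype).codRestrict
      (centralizer ({w} : Set G)) fun g => ?_) fun x y e => Subtype.ext (Subtype.ext (congrArg Subtype.val e :))
    rw [mem_centralizer_singleton_iff]
    have hg : (g.1 : G) * w * (g.1 : G)⁻¹ * w⁻¹ = 1 := congrArg Subtype.val (MonoidHom.mem_ker.1 g.2)
    rw [mul_inv_eq_one, mul_inv_eq_iff_eq_mul] at hg
    exact hg
  exact Group.isSolvable_of_surjective (f := π.subgroupComap _)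
    (MonoidHom.subgroupComap_surjective_of_surjective _ _ (QuotientGroup.mk'_surjective Z))

end CfsgLib.Involution.UnitarySylowGroup
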