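import Cfsg.Agent.Lib.Involution.UnitarySylowGroup.Abelian
import Cfsg.Agent.Lib.RankOne.UnitarySylow

/-!
A Sylow `2`-subgroup of the type of `U₃(q)`: elementary facts, and the quotient by a central `2`-subgroup.
-/

set_option autoImplicit false
set_option linter.unusedSectionVars false
set_option linter.style.haveILetI false

namespace CfsgLib.Involution.UnitarySylowGroup

open Subgroup CfsgLib.RankOne.UnitarySylow CfsgLib.Classical

variable {F : Type*} [Field F] [Fintype F] [CharP F 2] {σ : F →+* F} [hσ : Fact (IsConjugation σ)]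
  {q : ℕ} [hq : Fact (Fintype.card F = q ^ 2 ∧ ∀ x, σ x = x ^ q)]

theorem heis_sq_c (g : Heis σ) : (g * g).c = 0 := by rw [mul_c, RankOne.UnitarySylow.add_self]

theorem heis_pow_four' (g : Heis σ) : g ^ 4 = 1 := by
  rw [show (4 : ℕ) = 2 * 2 from rfl, pow_mul, pow_two g, pow_two]
  exact (mul_self_eq_one _).2 (heis_sq_c g)

theorem heis_comm_iff (g h : Heis σ) : g * h = h * g ↔ σ g.c * h.c = σ h.c * g.c := by
  constructor
  · intro e
    have e' := congrArg Heis.b e
    rw [mul_b, mul_b] at e'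
    linear_combination e'
  · intro e
    exact Heis.ext (by rw [mul_c, mul_c, add_comm]) (by rw [mul_b, mul_b, e]; ring)

theorem heis_centralizer_c {g : Heis σ} (hg : g.c ≠ 0) {h : Heis σ} (e : g * h = h * g) :
    σ (h.c / g.c) = h.c / g.c := by
  rw [map_div₀, div_eq_div_iff ((map_ne_zero σ).2 hg) hg]
  linear_combination ((heis_comm_iff g h).1 e).symm

theorem heis_centralizer_abelian {g : Heis σ} (hg : g.c ≠ 0) {h k : Heis σ} (e : g * h = h * g)
    (e' : g * k = k * g) : h * k = k * h := by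
  have h1 := heis_centralizer_c hg e
  have h2 := heis_centralizer_c hg e'
  obtain ⟨t, ht⟩ : ∃ t, t = h.c / g.c := ⟨_, rfl⟩
  obtain ⟨t', ht'⟩ : ∃ t', t' = k.c / g.c := ⟨_, rfl⟩
  rw [← ht] at h1
  rw [← ht'] at h2
  have e1 : h.c = t * g.c := by rw [ht, div_mul_cancel₀ _ hg]
  have e2 : k.c = t' * g.c := by rw [ht', div_mul_cancel₀ _ hg]
  rw [heis_comm_iff, e1, e2, map_mul, map_mul, h1, h2]
  ring

include hq in
theorem heis_card_centralizer {g : Heis σ} (hg : g.c ≠ 0) :
    Nat.card ↥(centralizer ({g} : Set (Heis σ))) = q * q := by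
  have mk : ∀ h : Heis σ, h ∈ centralizer ({g} : Set (Heis σ)) ↔ g * h = h * g := fun h => by
    rw [mem_centralizer_singleton_iff]; exact eq_comm
  let e : ↥(centralizer ({g} : Set (Heis σ))) ≃ {x : F // σ x = x} × {x : F // σ x = x} :=
    { toFun := fun h => (⟨h.1.c / g.c, heis_centralizer_c hg ((mk _).1 h.2)⟩,
        ⟨h.1.b - (h.1.c / g.c) ^ 2 * g.b, by
          have ht := heis_centralizer_c hg ((mk _).1 h.2)
          have h0 := h.1.hb
          rw [show h.1.c = h.1.c / g.c * g.c from (div_mul_cancel₀ _ hg).symm, map_mul, ht] at h0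
          rw [map_sub, map_mul, map_pow, ht]
          linear_combination h0 - (h.1.c / g.c) ^ 2 * g.hb
            + ((h.1.c / g.c) ^ 2 * g.b - h.1.b) * two0 (F := F)⟩)
      invFun := fun p => ⟨⟨p.1.1 * g.c, p.1.1 ^ 2 * g.b + p.2.1, by
        rw [map_add, map_mul, map_mul, map_pow, p.1.2, p.2.2]
        linear_combination p.1.1 ^ 2 * g.hb + p.2.1 * two0 (F := F)⟩, (mk _).2 ((heis_comm_iff _ _).2 (by
          show σ g.c * (p.1.1 * g.c) = σ (p.1.1 * g.c) * g.c
          rw [map_mul, p.1.2]; ring))⟩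
      left_inv := fun h => Subtype.ext (Heis.ext (div_mul_cancel₀ _ hg) (add_sub_cancel _ _))
      right_inv := fun p => Prod.ext (Subtype.ext (mul_div_cancel_right₀ _ hg)) (Subtype.ext (by
        show p.1.1 ^ 2 * g.b + p.2.1 - (p.1.1 * g.c / g.c) ^ 2 * g.b = p.2.1
        rw [mul_div_cancel_right₀ _ hg]; ring)) }
  rw [Nat.card_congr e, Nat.card_prod, card_fix (σ := σ) (q := q)]

theorem heis_exists_root {g z : Heis σ} (hg : g.c ≠ 0) (hz : z.c = 0) : ∃ h, g * h = h * g ∧ h * h = z := by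
  have hN : σ g.c * g.c ≠ 0 := mul_ne_zero ((map_ne_zero σ).2 hg) hg
  obtain ⟨t, ht⟩ := Finite.injective_iff_surjective.1 (frobenius_inj F 2) (z.b / (σ g.c * g.c))
  rw [frobenius_def] at ht
  have hzf : σ z.b = z.b := by linear_combination z.hb + σ z.c * hz - z.b * two0 (F := F)
  have htf : σ t = t := by
    apply frobenius_inj F 2
    rw [frobenius_def, frobenius_def, ← map_pow, ht, map_div₀, hzf, map_mul, hσ.out.invol, mul_comm (σ g.c)]
  refine ⟨⟨t * g.c, t ^ 2 * g.b, by
    rw [map_mul, map_mul, map_pow, htf]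
    linear_combination t ^ 2 * g.hb⟩, (heis_comm_iff _ _).2 ?_, Heis.ext ?_ ?_⟩
  · show σ g.c * (t * g.c) = σ (t * g.c) * g.c
    rw [map_mul, htf]; ring
  · rw [heis_sq_c, hz]
  · rw [mul_b, RankOne.UnitarySylow.add_self, zero_add]
    show σ (t * g.c) * (t * g.c) = z.b
    rw [map_mul, htf, show t * σ g.c * (t * g.c) = t ^ 2 * (σ g.c * g.c) by ring, ht, div_mul_cancel₀ _ hN]

/-- The data of a Sylow subgroup of unitary type. -/
structure Data (σ : F →+* F) [Fact (IsConjugation σ)] (G : Type*) [Group G] where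
  f : Heis σ →* G
  inj : Function.Injective f
  S : Sylow 2 G
  hS : (S : Subgroup G) = f.range

namespace Data

variable {G : Type*} [Group G] (D : Data σ G)

/-- The centre of the Sylow subgroup. -/
def Z : Subgroup G := (center (Heis σ)).map D.f

theorem mem_S (g : Heis σ) : D.f g ∈ (D.S : Subgroup G) := D.hS ▸ ⟨g, rfl⟩

theorem exists_pre {x : G} (hx : x ∈ (D.S : Subgroup G)) : ∃ g, D.f g = x := by
  rw [D.hS] at hx; exact hx

theorem f_mem_Z {g : Heis σ} : D.f g ∈ D.Z ↔ g.c = 0 := by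
  refine ⟨?_, fun h => mem_map_of_mem _ ((RankOne.UnitarySylow.mem_center_iff g).2 h)⟩
  rintro ⟨g', hg', e⟩
  exact D.inj e ▸ (RankOne.UnitarySylow.mem_center_iff g').1 hg'

theorem Z_le : D.Z ≤ (D.S : Subgroup G) := by rintro _ ⟨g, -, rfl⟩; exact D.mem_S g

theorem Z_comm {z s : G} (hz : z ∈ D.Z) (hs : s ∈ (D.S : Subgroup G)) : z * s = s * z := by
  obtain ⟨g, hg, rfl⟩ := hz
  obtain ⟨h, rfl⟩ := D.exists_pre hs
  rw [← map_mul, ← map_mul, Subgroup.mem_center_iff.1 hg h]

theorem sq_eq_one_iff {x : G} (hx : x ∈ (D.S : Subgroup G)) : x * x = 1 ↔ x ∈ D.Z := by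
  obtain ⟨g, rfl⟩ := D.exists_pre hx
  rw [← map_mul, map_eq_one_iff _ D.inj, mul_self_eq_one, f_mem_Z]

theorem Z_sq {z : G} (hz : z ∈ D.Z) : z * z = 1 := (D.sq_eq_one_iff (D.Z_le hz)).2 hz

theorem sq_mem {x : G} (hx : x ∈ (D.S : Subgroup G)) : x * x ∈ D.Z := by
  obtain ⟨g, rfl⟩ := D.exists_pre hx
  rw [← map_mul, f_mem_Z, heis_sq_c]

theorem comm_mem {x y : G} (hx : x ∈ (D.S : Subgroup G)) (hy : y ∈ (D.S : Subgroup G)) :
    x * y * x⁻¹ * y⁻¹ ∈ D.Z := by
  obtain ⟨g, rfl⟩ := D.exists_pre hx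
  obtain ⟨h, rfl⟩ := D.exists_pre hy
  rw [← map_inv, ← map_inv, ← map_mul, ← map_mul, ← map_mul, f_mem_Z, mul_c, mul_c, mul_c, inv_c, inv_c,
    add_right_comm g.c h.c g.c, RankOne.UnitarySylow.add_self, zero_add, RankOne.UnitarySylow.add_self]

theorem pow_four {x : G} (hx : x ∈ (D.S : Subgroup G)) : x ^ 4 = 1 := by
  obtain ⟨g, rfl⟩ := D.exists_pre hx
  rw [← map_pow, heis_pow_four', map_one]

theorem involution_mem {x : G} (hx : x ∈ (D.S : Subgroup G)) (ho : orderOf x = 2) : x ∈ D.Z :=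
  (D.sq_eq_one_iff hx).1 (by rw [← pow_two, ← ho, pow_orderOf_eq_one])

theorem normalizer_le : normalizer ((D.S : Subgroup G) : Set G) ≤ normalizer (D.Z : Set G) := by
  intro g hg
  rw [mem_normalizer_iff]
  refine fun x => ⟨fun hx => ?_, fun hx => ?_⟩
  · refine (D.sq_eq_one_iff ((mem_normalizer_iff.1 hg x).1 (D.Z_le hx))).1 ?_
    rw [show g * x * g⁻¹ * (g * x * g⁻¹) = g * (x * x) * g⁻¹ by group, D.Z_sq hx, mul_one, mul_inv_cancel]
  · refine (D.sq_eq_one_iff ((mem_normalizer_iff.1 hg x).2 (D.Z_le hx))).1 ?_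
    rw [show x * x = g⁻¹ * (g * x * g⁻¹ * (g * x * g⁻¹)) * g by group, D.Z_sq hx, mul_one, inv_mul_cancel]

/-- An element squaring to one of the centre and commuting with a given element outside. -/
theorem exists_root {w z : G} (hw : w ∈ (D.S : Subgroup G)) (hwZ : w ∉ D.Z) (hz : z ∈ D.Z) :
    ∃ x ∈ (D.S : Subgroup G), w * x = x * w ∧ x * x = z := by
  obtain ⟨g, rfl⟩ := D.exists_pre hw
  obtain ⟨k, hk, rfl⟩ := hz
  obtain ⟨h, h1, h2⟩ := heis_exists_root (fun e => hwZ (D.f_mem_Z.2 e))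
    ((RankOne.UnitarySylow.mem_center_iff k).1 hk)
  exact ⟨D.f h, D.mem_S h, by rw [← map_mul, h1, map_mul], by rw [← map_mul, h2]⟩

theorem exists_not_mem : ∃ w ∈ (D.S : Subgroup G), w ∉ D.Z := by
  obtain ⟨g, hg⟩ := exists_elt (σ := σ) (1 : F)
  exact ⟨D.f g, D.mem_S g, fun h => one_ne_zero (hg.symm.trans (D.f_mem_Z.1 h))⟩

theorem exists_sqrt {z : G} (hz : z ∈ D.Z) : ∃ x ∈ (D.S : Subgroup G), x * x = z := by
  obtain ⟨w, hw, hwZ⟩ := D.exists_not_mem
  obtain ⟨x, hx, -, h⟩ := D.exists_root hw hwZ hz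
  exact ⟨x, hx, h⟩

theorem centralizer_comm {w x y : G} (hw : w ∈ (D.S : Subgroup G)) (hwZ : w ∉ D.Z)
    (hx : x ∈ (D.S : Subgroup G)) (hy : y ∈ (D.S : Subgroup G)) (hwx : w * x = x * w) (hwy : w * y = y * w) :
    x * y = y * x := by
  obtain ⟨g, rfl⟩ := D.exists_pre hw
  obtain ⟨h, rfl⟩ := D.exists_pre hx
  obtain ⟨k, rfl⟩ := D.exists_pre hy
  rw [← map_mul, ← map_mul] at hwx hwy
  rw [← map_mul, ← map_mul, heis_centralizer_abelian (fun e => hwZ (D.f_mem_Z.2 e)) (D.inj hwx) (D.inj hwy)]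

theorem card_Z : Nat.card D.Z = q := by
  rw [Z, card_map_of_injective D.inj, card_center (σ := σ) (q := q)]

theorem card_S : Nat.card D.S = q ^ 3 := by
  show Nat.card ↥(D.S : Subgroup G) = q ^ 3
  rw [D.hS, ← Nat.card_congr (MonoidHom.ofInjective D.inj).toEquiv, card_heis (σ := σ) (q := q)]

theorem card_center_S : Nat.card (center ↥(D.S : Subgroup G)) = q :=
  (Nat.card_congr (centerCongr ((MonoidHom.ofInjective D.inj).trans
    (MulEquiv.subgroupCongr D.hS.symm))).toEquiv).symm.trans (card_center (σ := σ) (q := q))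

theorem card_centralizer {w : G} (hw : w ∈ (D.S : Subgroup G)) (hwZ : w ∉ D.Z) :
    Nat.card ↥((D.S : Subgroup G) ⊓ centralizer ({w} : Set G)) = q * q := by
  obtain ⟨g, rfl⟩ := D.exists_pre hw
  have e : (D.S : Subgroup G) ⊓ centralizer ({D.f g} : Set G) =
      (centralizer ({g} : Set (Heis σ))).map D.f := by
    refine le_antisymm ?_ ?_
    · rintro x ⟨hx, hxc⟩
      obtain ⟨h, rfl⟩ := D.exists_pre hx
      refine mem_map_of_mem _ (mem_centralizer_singleton_iff.2 (D.inj ?_))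
      rw [map_mul, map_mul]
      exact mem_centralizer_singleton_iff.1 hxc
    · rintro _ ⟨h, hh, rfl⟩
      exact ⟨D.mem_S h, mem_centralizer_singleton_iff.2 (by
        rw [← map_mul, ← map_mul, mem_centralizer_singleton_iff.1 hh])⟩
  rw [e, card_map_of_injective D.inj, heis_card_centralizer (q := q) fun e => hwZ (D.f_mem_Z.2 e)]

theorem S_le_centralizer {z : G} (hz : z ∈ D.Z) : (D.S : Subgroup G) ≤ centralizer ({z} : Set G) :=
  fun _ hs => mem_centralizer_singleton_iff.2 (D.Z_comm hz hs).symm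

end Data

/-- An odd normal subgroup of the quotient by a central `2`-subgroup vanishes with the odd core. -/
theorem pPrimeCore_quotient_central {G : Type*} [Group G] [Finite G] {C : Subgroup G} [C.Normal]
    (hC : C ≤ center G) (hCp : IsPGroup 2 C) (hO : Cfsg.pPrimeCore 2 G = ⊥) (W : Subgroup (G ⧸ C))
    [W.Normal] (hW : Odd (Nat.card W)) : W = ⊥ := by
  haveI : Fact (Nat.Prime 2) := ⟨Nat.prime_two⟩
  set D := W.comap (QuotientGroup.mk' C) with hD
  haveI : D.Normal := Normal.comap inferInstance _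
  have hCD : C ≤ D := fun c hc => by
    rw [hD, mem_comap, show QuotientGroup.mk' C c = 1 from (QuotientGroup.eq_one_iff c).2 hc]
    exact one_mem _
  have hidx : ((center ↥D).index) ∣ Nat.card W := by
    have h1 : C.subgroupOf D ≤ center ↥D := fun x hx => Subgroup.mem_center_iff.2 fun y =>
      Subtype.ext (Subgroup.mem_center_iff.1 (hC (mem_subgroupOf.1 hx)) y)
    refine (index_dvd_of_le h1).trans (dvd_of_eq ?_)
    have hker : ((QuotientGroup.mk' C).subgroupComap W).ker = C.subgroupOf D := by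
      ext x
      rw [MonoidHom.mem_ker, mem_subgroupOf]
      exact ⟨fun h => (QuotientGroup.eq_one_iff _).1 (congrArg Subtype.val h),
        fun h => Subtype.ext ((QuotientGroup.eq_one_iff _).2 h)⟩
    rw [← hker, index_ker, MonoidHom.range_eq_top.2 (MonoidHom.subgroupComap_surjective_of_surjective _ _
      (QuotientGroup.mk'_surjective C)), card_top]
  have hmodd : Odd (center ↥D).index := hW.of_dvd_nat hidx
  set R := (MonoidHom.transferCenterPow ↥D).ker with hR
  have hRodd : Odd (Nat.card R) := Nat.not_even_iff_odd.1 fun he => by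
    obtain ⟨x, hx⟩ := exists_prime_orderOf_dvd_card' 2 (even_iff_two_dvd.1 he)
    have h : (x : ↥D) ^ (center ↥D).index = 1 := by
      rw [← MonoidHom.transferCenterPow_apply]
      exact congrArg Subtype.val (MonoidHom.mem_ker.1 x.2)
    exact Nat.not_even_iff_odd.2 hmodd (even_iff_two_dvd.2
      (hx ▸ Subgroup.orderOf_coe x ▸ orderOf_dvd_of_pow_eq_one h))
  have hRmap : R.map D.subtype = ⊥ := by
    haveI : (R.map D.subtype).Normal := ⟨by
      rintro _ ⟨x, hx, rfl⟩ g
      refine ⟨⟨g * x * g⁻¹, Normal.conj_mem inferInstance _ x.2 g⟩, ?_, rfl⟩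
      have h : (x : ↥D) ^ (center ↥D).index = 1 := by
        rw [← MonoidHom.transferCenterPow_apply]
        exact congrArg Subtype.val (MonoidHom.mem_ker.1 hx)
      refine MonoidHom.mem_ker.2 (Subtype.ext ?_)
      rw [MonoidHom.transferCenterPow_apply]
      refine Subtype.ext ?_
      rw [SubgroupClass.coe_pow, conj_pow, ← SubgroupClass.coe_pow, h]
      simp⟩
    refine eq_bot_iff.2 ((CfsgLib.Solvable.Cores.le_pPrimeCore ?_).trans hO.le)
    rw [card_map_of_injective (subtype_injective _)]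
    exact Nat.coprime_two_right.2 hRodd
  rw [eq_bot_iff, ← map_comap_eq_self_of_surjective (QuotientGroup.mk'_surjective C) W, map_le_iff_le_comap,
    MonoidHom.comap_bot, QuotientGroup.ker_mk']
  intro d hd
  -- `d` is a `2`-element up to the trivial kernel
  have hcard : Odd (orderOf (QuotientGroup.mk' C d)) :=
    hW.of_dvd_nat (Subgroup.orderOf_dvd_natCard W hd)
  set j := orderOf (QuotientGroup.mk' C d)
  have hdj : d ^ j ∈ C := (QuotientGroup.eq_one_iff _).1 (by
    rw [QuotientGroup.mk_pow]; exact pow_orderOf_eq_one _)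
  obtain ⟨i, hi⟩ := hCp ⟨_, hdj⟩
  have hi' : (d ^ (2 ^ i)) ^ j = 1 := by
    rw [← pow_mul, mul_comm, pow_mul]; exact congrArg Subtype.val hi
  have hd1 : d ^ (2 ^ i) = 1 := by
    -- `D` is abelian, being embedded into its centre
    have hinj : Function.Injective (MonoidHom.transferCenterPow ↥D) := by
      rw [← MonoidHom.ker_eq_bot_iff]
      exact (Subgroup.map_eq_bot_iff_of_injective _ D.subtype_injective).1 hRmap
    have hab : ∀ x y : ↥D, Commute x y := fun x y => hinj (by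
      rw [map_mul, map_mul]
      exact Subtype.ext (Subgroup.mem_center_iff.1 (MonoidHom.transferCenterPow ↥D y).2 _))
    let E : Subgroup G :=
      { carrier := {x | x ∈ D ∧ x ^ Nat.card W = 1}
        one_mem' := ⟨one_mem _, one_pow _⟩
        mul_mem' := fun {x y} hx hy => ⟨mul_mem hx.1 hy.1, by
          rw [(show Commute x y from congrArg Subtype.val (hab ⟨x, hx.1⟩ ⟨y, hy.1⟩)).mul_pow, hx.2, hy.2, one_mul]⟩
        inv_mem' := fun {x} hx => ⟨inv_mem hx.1, by rw [inv_pow, hx.2, inv_one]⟩ }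
    haveI : E.Normal := ⟨fun x hx g => ⟨Normal.conj_mem inferInstance x hx.1 g, by
      rw [conj_pow, hx.2, mul_one, mul_inv_cancel]⟩⟩
    have hE : E = ⊥ := eq_bot_iff.2 ((CfsgLib.Solvable.Cores.le_pPrimeCore (Nat.coprime_two_right.2
      (Nat.not_even_iff_odd.1 fun he => by
        obtain ⟨⟨x, hx⟩, hxo⟩ := exists_prime_orderOf_dvd_card' 2 (even_iff_two_dvd.1 he)
        rw [orderOf_mk] at hxo
        exact Nat.not_even_iff_odd.2 hW (even_iff_two_dvd.2 (hxo ▸ orderOf_dvd_of_pow_eq_one hx.2))))).trans hO.le)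
    have hmem : d ^ (2 ^ i) ∈ E := ⟨pow_mem hd _, by
      obtain ⟨c, hc⟩ := Subgroup.orderOf_dvd_natCard W hd
      rw [hc, pow_mul, hi', one_pow]⟩
    rw [hE] at hmem
    exact mem_bot.1 hmem
  have ho : orderOf (QuotientGroup.mk' C d) ∣ 2 ^ i :=
    orderOf_dvd_of_pow_eq_one (by rw [← map_pow, hd1, map_one])
  have h1 : j = 1 := Nat.eq_one_of_dvd_coprimes ((Nat.coprime_two_left.2 hcard).pow_left i) ho dvd_rfl
  exact (QuotientGroup.eq_one_iff d).1 (orderOf_eq_one_iff.1 h1)

end CfsgLib.Involution.UnitarySylowGroup
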