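import Cfsg.Agent.Lib.Involution.UnitarySylowGroup.Main

/-!
The structure theorem for groups with Sylow `2`-subgroups of the type of `U₃(2ⁿ)`.
-/

set_option autoImplicit false
set_option linter.unusedSectionVars false
set_option linter.style.haveILetI false

namespace CfsgLib.Involution.UnitarySylowGroup

open Subgroup CfsgLib.RankOne.UnitarySylow CfsgLib.Classical CfsgLib.Involution.SEModule

universe u v

/-- The structure theorem, granted the structural form of Bender's theorem. -/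
theorem final {G : Type u} [Group G] [Finite G] (hM : BenderHyp.{u}) (n : ℕ) (hn : 3 ≤ n) {F : Type v} [Field F]
    [Fintype F] (hF : Fintype.card F = 4 ^ n) (S : Sylow 2 G) (P : Sylow 2 (Cfsg.PSU 3 F (2 ^ n)))
    (hS : Nonempty (↥(S : Subgroup G) ≃* ↥(P : Subgroup (Cfsg.PSU 3 F (2 ^ n))))) :
    (Group.IsSolvable G ∧ Cfsg.PLengthLE 2 1 G) ∨
      ∃ N : Subgroup (G ⧸ Cfsg.oddCore G), N.Normal ∧ Odd N.index ∧
        Nonempty (↥N ≃* Cfsg.PSU 3 F (2 ^ n)) := by
  haveI : Fact (Nat.Prime 2) := ⟨Nat.prime_two⟩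
  have hF2 : Fintype.card F = (2 ^ n) ^ 2 := by
    rw [hF, ← pow_mul, mul_comm, pow_mul]; norm_num
  obtain ⟨p, _⟩ := CharP.exists F
  haveI : CharP F 2 := by
    obtain ⟨k, hp, hk⟩ := FiniteField.card F p
    have h1 : p ∣ 2 := hp.dvd_of_dvd_pow (n := n * 2)
      (by rw [pow_mul, ← hF2, hk]; exact dvd_pow_self p k.pos.ne')
    exact (Nat.prime_dvd_prime_iff_eq hp Nat.prime_two).1 h1 ▸ ‹CharP F p›
  obtain ⟨σ, hσq, hσ⟩ := CfsgLib.Classical.exists_frob hF2
  haveI : Fact (CfsgLib.Classical.IsConjugation σ) := ⟨hσ⟩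
  haveI : Fact (Fintype.card F = (2 ^ n) ^ 2 ∧ ∀ x, σ x = x ^ (2 ^ n)) := ⟨⟨hF2, hσq⟩⟩
  obtain ⟨eS⟩ := hS
  obtain ⟨S', ⟨e'⟩⟩ := CfsgLib.RankOne.FixedLine.psu_sylow (σ := σ) (2 ^ n) n (by omega) rfl
  let f : Heis σ →* G :=
    (S : Subgroup G).subtype.comp ((e'.trans (Sylow.equiv S' P)).trans eS.symm).toMonoidHom
  have hf : Function.Injective f := (subtype_injective _).comp ((e'.trans (Sylow.equiv S' P)).trans eS.symm).injective
  have hfr : f.range = (S : Subgroup G) := by
    rw [MonoidHom.range_comp, MonoidHom.range_eq_top.2 (MulEquiv.surjective _), ← MonoidHom.range_eq_map,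
      range_subtype]
  haveI := CfsgLib.Solvable.Cores.pPrimeCore_normal (G := G) 2
  set π := QuotientGroup.mk' (Cfsg.pPrimeCore 2 G) with hπ
  have hinj : Function.Injective (π.comp f) := by
    refine (injective_iff_map_eq_one _).2 fun g hg => ?_
    have h1 : f g ∈ Cfsg.pPrimeCore 2 G := (QuotientGroup.eq_one_iff _).1 hg
    have h2 : f g = 1 := orderOf_eq_one_iff.1 (Nat.eq_one_of_dvd_coprimes
      ((CfsgLib.Solvable.Cores.coprime_card_pPrimeCore (G := G) 2).symm.pow_left 2)
      (orderOf_dvd_of_pow_eq_one (by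
        rw [← map_pow, show (2 : ℕ) ^ 2 = 4 from rfl, heis_pow_four' g, map_one]))
      (Subgroup.orderOf_dvd_natCard _ h1))
    exact hf (by rw [map_one]; exact h2)
  let E : Data σ (G ⧸ Cfsg.pPrimeCore 2 G) :=
    { f := π.comp f
      inj := hinj
      S := S.mapSurjective (QuotientGroup.mk'_surjective _)
      hS := by
        show (S : Subgroup G).map π = _
        rw [← hfr, MonoidHom.map_range] }
  have h8 : 8 ≤ 2 ^ n := (Nat.pow_le_pow_right (by norm_num) hn : 2 ^ 3 ≤ 2 ^ n)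
  rcases main_core (q := 2 ^ n) hM h8 _ _ rfl CfsgLib.Coprime.OneClassInvolutions.pPrimeCore_quotient_self E
    with h | h
  · refine Or.inl ?_
    have h' := h.comap π
    change (((S : Subgroup G).map π).comap π).Normal at h'
    rw [comap_map_eq, QuotientGroup.ker_mk'] at h'
    exact ⟨isSolvable_of_closed S h', pLength_of_closed S h'⟩
  · exact Or.inr h

end CfsgLib.Involution.UnitarySylowGroup
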