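import Cfsg.Agent.Lib.Involution.UnitarySylowGroup.Facts
import Cfsg.Agent.Lib.RankOne.FixedLine.Models
import Cfsg.Agent.Lib.Involution.ZStar.Main
import Cfsg.Agent.S0283

/-!
Groups whose Sylow `2`-subgroups are those of `U₃(q)`, granted the structural form of Bender's theorem.
-/

set_option autoImplicit false
set_option linter.unusedSectionVars false
set_option linter.style.haveILetI false

namespace CfsgLib.Involution.UnitarySylowGroup

open Subgroup CfsgLib.RankOne.UnitarySylow CfsgLib.Classical CfsgLib.Involution.SEModule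

universe u v

variable {F : Type v} [Field F] [Fintype F] [CharP F 2] {σ : F →+* F} [hσ : Fact (IsConjugation σ)]
  {q : ℕ} [hq : Fact (Fintype.card F = q ^ 2 ∧ ∀ x, σ x = x ^ q)]

/-- The conclusion for one group. -/
def Concl (F : Type v) [Field F] [Fintype F] (q : ℕ) {G : Type u} [Group G] (S : Sylow 2 G) : Prop :=
  (S : Subgroup G).Normal ∨
    ∃ L : Subgroup G, L.Normal ∧ Odd L.index ∧ Nonempty (↥L ≃* Cfsg.PSU 3 F q)

variable {G : Type u} [Group G] [Finite G]

include hq in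
/-- The centraliser of an element of order four of the Sylow subgroup. -/
theorem centralizer_outside (hM : BenderHyp.{u}) (D : Data σ G) {w : G} (hw : w ∈ (D.S : Subgroup G))
    (hwZ : w ∉ D.Z) (hC : ∀ z ∈ D.Z, z ≠ 1 → z ∈ center G ∨ Group.IsSolvable ↥(centralizer ({z} : Set G))) :
    Group.IsSolvable ↥(centralizer ({w} : Set G)) ∧
      ∃ T : Sylow 2 ↥(centralizer ({w} : Set G)),
        (T : Subgroup ↥(centralizer ({w} : Set G))) = (D.S : Subgroup G).subgroupOf (centralizer ({w} : Set G)) ∧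
          ((T : Subgroup ↥(centralizer ({w} : Set G))) ⊔
            Cfsg.pPrimeCore 2 ↥(centralizer ({w} : Set G))).Normal := by
  haveI : Fact (Nat.Prime 2) := ⟨Nat.prime_two⟩
  set H := centralizer ({w} : Set G) with hH
  set T0 := (D.S : Subgroup G).subgroupOf H with hT0
  have hT0card : Nat.card T0 = q * q := by
    rw [hT0, ← inf_subgroupOf_right, Nat.card_congr (subgroupOfEquivOfLe inf_le_right).toEquiv,
      D.card_centralizer (q := q) hw hwZ]
  obtain ⟨R, hR⟩ := (D.S.2.comap_subtype (K := H)).exists_le_sylow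
  have hcardR : Nat.card R ≤ q * q := by
    obtain ⟨P, hP⟩ := (R.2.map H.subtype).exists_le_sylow
    obtain ⟨g, hg⟩ := MulAction.exists_smul_eq G P D.S
    have hwR : (⟨w, mem_centralizer_singleton_iff.2 rfl⟩ : H) ∈ (R : Subgroup H) := hR hw
    have hconj : ∀ r ∈ (R : Subgroup H), g * (r : G) * g⁻¹ ∈ (D.S : Subgroup G) := fun r hr => by
      rw [← hg, Sylow.coe_subgroup_smul]
      exact ⟨r, hP (mem_map_of_mem _ hr), rfl⟩
    have hv : g * w * g⁻¹ ∈ (D.S : Subgroup G) := hconj _ hwR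
    have hvZ : g * w * g⁻¹ ∉ D.Z := fun h => hwZ ((D.sq_eq_one_iff hw).1 (by
      rw [show w * w = g⁻¹ * (g * w * g⁻¹ * (g * w * g⁻¹)) * g by group, D.Z_sq h, mul_one, inv_mul_cancel]))
    rw [← D.card_centralizer (q := q) hv hvZ]
    refine Nat.card_le_card_of_injective (fun r => ⟨g * (r : H) * g⁻¹, hconj _ r.2,
      mem_centralizer_singleton_iff.2 ?_⟩) fun r r' e => ?_
    · calc g * (r : H) * g⁻¹ * (g * w * g⁻¹) = g * ((r : H) * w) * g⁻¹ := by group
        _ = g * (w * (r : H)) * g⁻¹ := by rw [mem_centralizer_singleton_iff.1 (r : H).2]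
        _ = g * w * g⁻¹ * (g * (r : H) * g⁻¹) := by group
    · exact Subtype.ext (Subtype.ext (mul_left_cancel (mul_right_cancel (congrArg Subtype.val e))))
  have hRT : (R : Subgroup H) = T0 := (eq_of_le_of_card_ge hR (hcardR.trans hT0card.ge)).symm
  have hab : ∀ x ∈ (R : Subgroup H), ∀ y ∈ (R : Subgroup H), x * y = y * x := fun x hx y hy => by
    rw [hRT] at hx hy
    exact Subtype.ext (D.centralizer_comm hw hwZ hx hy (mem_centralizer_singleton_iff.1 x.2).symm
      (mem_centralizer_singleton_iff.1 y.2).symm)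
  have hinv : ∀ a ∈ (R : Subgroup H), orderOf a = 2 → (a : G) ∈ D.Z ∧ (a : G) ≠ 1 := fun a ha hao => by
    rw [hRT] at ha
    rw [← Subgroup.orderOf_coe] at hao
    exact ⟨D.involution_mem ha hao, fun e => by rw [e, orderOf_one] at hao; omega⟩
  have hsolv : Group.IsSolvable H := by
    refine solvable_of_abelian hM R hab (fun x hx => ?_) (fun a ha hao => ?_) fun a ha hao => ?_
    · rw [hRT] at hx
      exact Subtype.ext (D.pow_four hx)
    · obtain ⟨x, hx, hwx, hxa⟩ := D.exists_root hw hwZ (hinv a ha hao).1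
      exact ⟨⟨x, mem_centralizer_singleton_iff.2 hwx.symm⟩, hRT.symm ▸ hx, Subtype.ext hxa⟩
    · obtain ⟨haZ, ha1⟩ := hinv a ha hao
      rcases hC _ haZ ha1 with h | h
      · exact Or.inl (Subgroup.mem_center_iff.2 fun y => Subtype.ext (Subgroup.mem_center_iff.1 h y))
      refine Or.inr ?_
      haveI := h
      exact Group.isSolvable_of_isSolvable_injective (f := (H.subtype.comp
        (centralizer ({a} : Set H)).subtype).codRestrict (centralizer ({(a : G)} : Set G)) fun c =>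
          mem_centralizer_singleton_iff.2 (congrArg Subtype.val (mem_centralizer_singleton_iff.1 c.2)))
        fun c d e => Subtype.ext (Subtype.ext (congrArg Subtype.val e :))
  haveI := hsolv
  exact ⟨hsolv, R, hRT, Cfsg.Agent.S0018.result 2 R ⟨⟨fun x y => Subtype.ext (hab _ x.2 _ y.2)⟩⟩⟩

/-- The centre of a group with trivial odd core lies in the centre of the Sylow subgroup. -/
theorem center_le (D : Data σ G) (hO : Cfsg.pPrimeCore 2 G = ⊥) : center G ≤ D.Z := by
  haveI : Fact (Nat.Prime 2) := ⟨Nat.prime_two⟩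
  intro c hc
  set m := ordCompl[2] (orderOf c) with hm
  set k := (orderOf c).factorization 2 with hk
  have hmo : Odd m := Nat.not_even_iff_odd.1 fun h =>
    Nat.not_dvd_ordCompl Nat.prime_two (orderOf_pos c).ne' (even_iff_two_dvd.1 h)
  have hkm : 2 ^ k * m = orderOf c := Nat.ordProj_mul_ordCompl_eq_self _ 2
  have h1 : c ^ (2 ^ k) = 1 := by
    haveI : (zpowers (c ^ (2 ^ k))).Normal := ⟨fun x hx g => by
      have hxc : x ∈ center G := zpowers_le.2 (pow_mem hc _) hx
      rwa [Subgroup.mem_center_iff.1 hxc g, mul_inv_cancel_right]⟩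
    have hle := CfsgLib.Solvable.Cores.le_pPrimeCore (p := 2) (N := zpowers (c ^ (2 ^ k))) (by
      rw [Nat.card_zpowers]
      refine (Nat.coprime_two_right.2 hmo).coprime_dvd_left (orderOf_dvd_of_pow_eq_one ?_)
      rw [← pow_mul, hkm, pow_orderOf_eq_one])
    rw [hO] at hle
    exact mem_bot.1 (hle (mem_zpowers _))
  have hcN : c ∈ normalizer ((D.S : Subgroup G) : Set G) := mem_normalizer_fintype fun s hs => by
    rw [← Subgroup.mem_center_iff.1 hc s, mul_inv_cancel_right]; exact hs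
  have hcS := UnitaryCentralizer.mem_sylow_of_mem_normalizer D.S hcN h1
  obtain ⟨g, rfl⟩ := D.exists_pre hcS
  exact mem_map_of_mem _ (Subgroup.mem_center_iff.2 fun h => D.inj (by
    rw [map_mul, map_mul]; exact Subgroup.mem_center_iff.1 hc _))

/-- Centralisers of involutions of the Sylow subgroup, by induction. -/
theorem closed_of_ind (D : Data σ G) (hq8 : 8 ≤ q)
    (hind : ∀ (X : Type u) [Group X] [Finite X], Nat.card X < Nat.card G → Cfsg.pPrimeCore 2 X = ⊥ →
      ∀ E : Data σ X, Concl F q E.S)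
    {a : G} (ha : a ∈ D.Z) (hac : a ∉ center G) :
    (((D.S.subtype (D.S_le_centralizer ha) : Sylow 2 ↥(centralizer ({a} : Set G))) :
      Subgroup ↥(centralizer ({a} : Set G))) ⊔ Cfsg.pPrimeCore 2 ↥(centralizer ({a} : Set G))).Normal := by
  haveI : Fact (Nat.Prime 2) := ⟨Nat.prime_two⟩
  set H := centralizer ({a} : Set G) with hH
  have hSH := D.S_le_centralizer ha
  haveI := CfsgLib.Solvable.Cores.pPrimeCore_normal (G := ↥H) 2
  set π := QuotientGroup.mk' (Cfsg.pPrimeCore 2 ↥H) with hπ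
  have hlt : Nat.card (↥H ⧸ Cfsg.pPrimeCore 2 ↥H) < Nat.card G := by
    refine lt_of_le_of_lt (Nat.card_le_card_of_surjective π (QuotientGroup.mk'_surjective _)) ?_
    refine lt_of_le_of_ne (card_le_card_group H) fun e => hac ?_
    have htop := (eq_top_of_card_eq H e)
    exact Subgroup.mem_center_iff.2 fun y =>
      mem_centralizer_singleton_iff.1 (show y ∈ H from htop ▸ mem_top y)
  let f' : Heis σ →* ↥H := D.f.codRestrict H fun g => hSH (D.mem_S g)
  have hf' : f'.range = ((D.S.subtype hSH : Sylow 2 ↥H) : Subgroup ↥H) := by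
    ext x
    rw [Sylow.coe_subtype, mem_subgroupOf, D.hS]
    exact ⟨fun ⟨g, hg⟩ => ⟨g, congrArg Subtype.val hg⟩, fun ⟨g, hg⟩ => ⟨g, Subtype.ext hg⟩⟩
  haveI : Finite (Heis σ) := Finite.of_injective D.f D.inj
  have hinj : Function.Injective (π.comp f') := by
    refine (injective_iff_map_eq_one _).2 fun g hg => ?_
    have h1 : f' g ∈ Cfsg.pPrimeCore 2 ↥H := (QuotientGroup.eq_one_iff _).1 hg
    have h2 : f' g = 1 := orderOf_eq_one_iff.1 (Nat.eq_one_of_dvd_coprimes
      ((CfsgLib.Solvable.Cores.coprime_card_pPrimeCore (G := ↥H) 2).symm.pow_left 2)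
      (orderOf_dvd_of_pow_eq_one (by
        rw [← map_pow, show (2 : ℕ) ^ 2 = 4 from rfl, heis_pow_four' g, map_one]))
      (Subgroup.orderOf_dvd_natCard _ h1))
    exact D.inj (by rw [map_one]; exact congrArg Subtype.val h2)
  let E : Data σ (↥H ⧸ Cfsg.pPrimeCore 2 ↥H) :=
    { f := π.comp f'
      inj := hinj
      S := (D.S.subtype hSH).mapSurjective (QuotientGroup.mk'_surjective _)
      hS := by
        show ((D.S.subtype hSH : Sylow 2 ↥H) : Subgroup ↥H).map π = _
        rw [← hf', MonoidHom.range_comp] }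
  rcases hind _ hlt CfsgLib.Coprime.OneClassInvolutions.pPrimeCore_quotient_self E with h | ⟨L, hLn, hLo, ⟨e⟩⟩
  · have h' := h.comap π
    change ((((D.S.subtype hSH : Sylow 2 ↥H) : Subgroup ↥H).map π).comap π).Normal at h'
    rwa [comap_map_eq, QuotientGroup.ker_mk'] at h'
  · exfalso
    haveI := hLn
    have hSL : ∀ g, E.f g ∈ L := fun g => by
      rw [← QuotientGroup.eq_one_iff (N := L)]
      refine orderOf_eq_one_iff.1 (Nat.eq_one_of_dvd_coprimes
        ((Nat.coprime_two_left.2 hLo).pow_left 2) (orderOf_dvd_of_pow_eq_one ?_)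
        ((_root_.orderOf_dvd_natCard _).trans (dvd_of_eq (index_eq_card L).symm)))
      rw [← QuotientGroup.mk_pow, ← map_pow, show (2 : ℕ) ^ 2 = 4 from rfl, heis_pow_four' g, map_one,
        QuotientGroup.mk_one]
    haveI : IsSimpleGroup (Cfsg.PSU 3 F q) :=
      Cfsg.Agent.S0283.result hq.out.1 3 le_rfl (fun h => by omega)
    obtain ⟨k, -, hka⟩ := id ha
    have hkL : e ⟨E.f k, hSL k⟩ ∈ center (Cfsg.PSU 3 F q) := Subgroup.mem_center_iff.2 fun y => by
      obtain ⟨y, rfl⟩ := e.surjective y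
      rw [← map_mul, ← map_mul]
      refine congrArg e (Subtype.ext ?_)
      obtain ⟨h, hh⟩ := QuotientGroup.mk_surjective (y : ↥H ⧸ Cfsg.pPrimeCore 2 ↥H)
      show (y : ↥H ⧸ Cfsg.pPrimeCore 2 ↥H) * E.f k = E.f k * y
      rw [← hh]
      show ((h * f' k : ↥H) : ↥H ⧸ Cfsg.pPrimeCore 2 ↥H) = ((f' k * h : ↥H) : ↥H ⧸ Cfsg.pPrimeCore 2 ↥H)
      refine congrArg _ (Subtype.ext ?_)
      show (h : G) * D.f k = D.f k * (h : G)
      rw [hka]
      exact mem_centralizer_singleton_iff.1 h.2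
    rcases (inferInstance : (center (Cfsg.PSU 3 F q)).Normal).eq_bot_or_eq_top with hc | hc
    · rw [hc, mem_bot, map_eq_one_iff _ e.injective] at hkL
      have : D.f k = 1 := by rw [hinj ((congrArg Subtype.val hkL).trans (map_one _).symm), map_one]
      exact hac (by rw [← hka, this]; exact one_mem _)
    · obtain ⟨g, hg⟩ := exists_elt (σ := σ) (1 : F)
      refine one_ne_zero (hg.symm.trans ((RankOne.UnitarySylow.mem_center_iff g).1
        (Subgroup.mem_center_iff.2 fun h => hinj (congrArg Subtype.val (e.injective (?_ :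
          e (⟨E.f (h * g), hSL _⟩ : L) = e ⟨E.f (g * h), hSL _⟩))))))
      rw [show (⟨E.f (h * g), hSL _⟩ : L) = ⟨E.f h, hSL h⟩ * ⟨E.f g, hSL g⟩ from Subtype.ext (map_mul _ _ _),
        show (⟨E.f (g * h), hSL _⟩ : L) = ⟨E.f g, hSL g⟩ * ⟨E.f h, hSL h⟩ from Subtype.ext (map_mul _ _ _),
        map_mul, map_mul]
      exact Subgroup.mem_center_iff.1 (hc ▸ mem_top (e ⟨E.f g, hSL g⟩)) _

/-- A non-cyclic group of exponent two. -/
theorem not_isCyclic_of_three {G : Type*} [Group G] {A : Subgroup G} (hA : ∀ x ∈ A, x * x = 1) {a b : G}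
    (ha : a ∈ A) (hb : b ∈ A) (ha1 : a ≠ 1) (hb1 : b ≠ 1) (hab : a ≠ b) : ¬ IsCyclic A := by
  intro hc
  obtain ⟨⟨t, ht⟩, htg⟩ := hc.exists_generator
  have h : ∀ a ∈ A, a = 1 ∨ a = t := fun a ha => by
    obtain ⟨i, hi⟩ := mem_zpowers_iff.1 (htg ⟨a, ha⟩)
    have hi' : t ^ i = a := congrArg Subtype.val hi
    obtain ⟨j, rfl | rfl⟩ := Int.even_or_odd' i
    · exact Or.inl (by rw [← hi', zpow_mul, zpow_two, hA t ht, one_zpow])
    · exact Or.inr (by rw [← hi', zpow_add, zpow_mul, zpow_two, hA t ht, one_zpow, one_mul, zpow_one])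
  exact hab (((h a ha).resolve_left ha1).trans ((h b hb).resolve_left hb1).symm)

/-- Squares of conjugates modulo the centre. -/
theorem sq_of_isConj {C : Subgroup G} [C.Normal] (hC : C ≤ center G) (hC2 : ∀ c ∈ C, c * c = 1) {x y : G}
    (h : IsConj (x : G ⧸ C) (y : G ⧸ C)) : ∃ g : G, g * (x * x) * g⁻¹ = y * y := by
  obtain ⟨c, hc⟩ := isConj_iff.1 h
  obtain ⟨g, rfl⟩ := QuotientGroup.mk_surjective c
  rw [← QuotientGroup.mk_inv, ← QuotientGroup.mk_mul, ← QuotientGroup.mk_mul] at hc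
  obtain ⟨z, hz, hgz⟩ : ∃ z ∈ C, g * x * g⁻¹ = y * z :=
    ⟨_, QuotientGroup.eq.1 hc.symm, (mul_inv_cancel_left _ _).symm⟩
  refine ⟨g, ?_⟩
  calc g * (x * x) * g⁻¹ = g * x * g⁻¹ * (g * x * g⁻¹) := by group
    _ = y * y * (z * z) := by
      rw [hgz]
      exact (show Commute z y from (Subgroup.mem_center_iff.1 (hC hz) y).symm).mul_mul_mul_comm y z
    _ = y * y := by rw [hC2 z hz, mul_one]

/-- No involution of the Sylow subgroup is central. -/
theorem case_free (hM : BenderHyp.{u}) (D : Data σ G) (hq8 : 8 ≤ q) (hO : Cfsg.pPrimeCore 2 G = ⊥)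
    (hcl : ∀ a ∈ D.Z, (hac : a ∉ center G) →
      ∀ hS : (D.S : Subgroup G) ≤ centralizer ({a} : Set G),
        (((D.S.subtype hS : Sylow 2 ↥(centralizer ({a} : Set G))) :
          Subgroup ↥(centralizer ({a} : Set G))) ⊔ Cfsg.pPrimeCore 2 ↥(centralizer ({a} : Set G))).Normal)
    (hfree : ∀ a ∈ D.Z, a ∈ center G → a = 1) : Concl F q D.S := by
  classical
  haveI : Fact (Nat.Prime 2) := ⟨Nat.prime_two⟩
  have hZc : ∀ a ∈ D.Z, ∀ b ∈ D.Z, a * b = b * a := fun a ha b hb => D.Z_comm ha (D.Z_le hb)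
  have hZ2 : ∀ a ∈ D.Z, a ^ 2 = 1 := fun a ha => by rw [pow_two]; exact D.Z_sq ha
  have hZ8 : 2 ^ 3 ≤ Nat.card D.Z := by rw [D.card_Z (q := q)]; exact hq8
  have hac : ∀ a ∈ D.Z, a ≠ 1 → a ∉ center G := fun a ha ha1 h => ha1 (hfree a ha h)
  have hsolv : ∀ a ∈ D.Z, a ≠ 1 → Group.IsSolvable ↥(centralizer ({a} : Set G)) := fun a ha ha1 =>
    isSolvable_of_closed _ (hcl a ha (hac a ha ha1) (D.S_le_centralizer ha))
  obtain ⟨hWodd, -⟩ := complete hZc hZ2 hZ8 hsolv
  obtain ⟨K, hK, hNK, hCK⟩ : ∃ K : Subgroup G, ((K = ⊤) → (D.S : Subgroup G).Normal) ∧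
      normalizer ((D.S : Subgroup G) : Set G) ≤ K ∧ ∀ a ∈ D.Z, a ≠ 1 → coreC a ≤ K := by
    by_cases hW : closureW D.Z = ⊥
    · exact ⟨_, fun h => normalizer_eq_top_iff.1 h, le_rfl,
        fun a ha ha1 => ((coreC_le_closureW ha ha1).trans hW.le).trans bot_le⟩
    · refine ⟨normalizer (closureW D.Z : Set G), fun h => absurd ?_ hW,
        D.normalizer_le.trans (normalizer_closureW _), fun a ha ha1 => (coreC_le_closureW ha ha1).trans le_normalizer⟩
      haveI := normalizer_eq_top_iff.1 h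
      exact eq_bot_iff.2 ((CfsgLib.Solvable.Cores.le_pPrimeCore (Nat.coprime_two_right.2 hWodd)).trans hO.le)
  rcases eq_or_ne K ⊤ with hK1 | hK1
  · exact Or.inl (hK hK1)
  have heven : 2 ∣ Nat.card G := by
    obtain ⟨j, hj⟩ := (D.S.2.to_le D.Z_le).exists_card_eq
    refine Dvd.dvd.trans ?_ (card_subgroup_dvd_card D.Z)
    rw [hj] at hZ8 ⊢
    exact dvd_pow_self 2 fun e => by subst e; simp at hZ8
  have hSE : Cfsg.IsStronglyEmbedded K := se_of_centralizers D.S heven hK1 hNK fun a haS hao => by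
    have haZ := D.involution_mem haS hao
    have ha1 : a ≠ 1 := fun e => by rw [e, orderOf_one] at hao; omega
    exact centralizer_le_of_closed D.S (D.S_le_centralizer haZ) (hcl a haZ (hac a haZ ha1) _) (hCK a haZ ha1) hNK
  haveI : Nontrivial D.Z := Finite.one_lt_card_iff_nontrivial.1 (by omega)
  obtain ⟨a, ha1⟩ := exists_ne (1 : D.Z)
  obtain ⟨b, hb1, hba⟩ : ∃ b : D.Z, b ≠ 1 ∧ b ≠ a := by
    by_contra hno
    push Not at hno
    have : Nat.card D.Z ≤ Nat.card Bool := Nat.card_le_card_of_injective (fun x => decide (x = 1))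
      fun x y hxy => by
        simp only [decide_eq_decide] at hxy
        by_cases hx : x = 1
        · rw [hx, hxy.1 hx]
        · rw [hno x hx, hno y fun e => hx (hxy.2 e)]
    rw [show Nat.card Bool = 2 by simp] at this
    omega
  have hao : orderOf (a : G) = 2 := orderOf_eq_prime (hZ2 _ a.2) fun e => ha1 (Subtype.ext e)
  have hbo : orderOf (b : G) = 2 := orderOf_eq_prime (hZ2 _ b.2) fun e => hb1 (Subtype.ext e)
  obtain ⟨L, hLn, hLo, -, h⟩ := bender_cases (hM G K hSE) hO D.S hao hbo (hZc _ a.2 _ b.2)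
    (fun e => hba (Subtype.ext e.symm))
  rcases h with h | ⟨r, hr, h1, h2⟩ | ⟨E, _, _, l, hl, hE, ⟨e⟩, h1, -⟩
  · obtain ⟨w, hw, hwZ⟩ := D.exists_not_mem
    exact absurd ((D.sq_eq_one_iff hw).1 (h w hw)) hwZ
  · rw [D.card_center_S (q := q)] at h2
    rw [D.card_S (q := q), ← h2] at h1
    nlinarith
  · have hlq : 2 ^ l = q := by
      refine Nat.pow_left_injective (n := 3) (by norm_num) ?_
      show (2 ^ l) ^ 3 = q ^ 3
      rw [← h1, D.card_S (q := q)]
    subst hlq
    exact Or.inr ⟨L, hLn, hLo, ⟨e.trans (psuCongr hE hq.out.1)⟩⟩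

/-- All involutions of the Sylow subgroup are central. -/
theorem case_central (hM : BenderHyp.{u}) (D : Data σ G) (hq8 : 8 ≤ q) (hO : Cfsg.pPrimeCore 2 G = ⊥)
    (hcen : D.Z ≤ center G) : (D.S : Subgroup G).Normal := by
  classical
  haveI : Fact (Nat.Prime 2) := ⟨Nat.prime_two⟩
  have hCZ := center_le D hO
  have hC2 : ∀ c ∈ center G, c * c = 1 := fun c hc => D.Z_sq (hCZ hc)
  have hCp : IsPGroup 2 (center G) := D.S.2.to_le (hCZ.trans D.Z_le)
  set π := QuotientGroup.mk' (center G) with hπ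
  have hπ1 : ∀ x : G, π x = 1 ↔ x ∈ center G := fun x => QuotientGroup.eq_one_iff x
  set T := D.S.mapSurjective (QuotientGroup.mk'_surjective (center G)) with hT
  have hTm : (T : Subgroup (G ⧸ center G)) = (D.S : Subgroup G).map π := rfl
  have hTc : ∀ x ∈ (T : Subgroup (G ⧸ center G)), ∀ y ∈ (T : Subgroup (G ⧸ center G)), x * y = y * x := by
    rintro _ ⟨x, hx, rfl⟩ _ ⟨y, hy, rfl⟩
    have h := (hπ1 _).2 (hcen (D.comm_mem hx hy))
    rwa [map_mul, map_mul, map_mul, map_inv, map_inv, mul_inv_eq_one, mul_inv_eq_iff_eq_mul] at h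
  have hT2 : ∀ x ∈ (T : Subgroup (G ⧸ center G)), x ^ 2 = 1 := by
    rintro _ ⟨x, hx, rfl⟩
    rw [pow_two, ← map_mul]
    exact (hπ1 _).2 (hcen (D.sq_mem hx))
  have hT8 : 2 ^ 3 ≤ Nat.card ↥(T : Subgroup (G ⧸ center G)) := by
    have hle : Nat.card ↥(D.S : Subgroup G) ∣
        Nat.card ↥(T : Subgroup (G ⧸ center G)) * Nat.card (center G) := by
      rw [hTm, ← index_mul_card ((π.comp (D.S : Subgroup G).subtype).ker), index_ker, MonoidHom.range_comp,
        range_subtype]
      refine mul_dvd_mul_left _ (card_dvd_of_injective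
        (((D.S : Subgroup G).subtype.comp (π.comp (D.S : Subgroup G).subtype).ker.subtype).codRestrict (center G)
          fun x => (hπ1 _).1 x.2) fun x y e => Subtype.ext (Subtype.ext (congrArg Subtype.val e :)))
    have hCq : Nat.card (center G) ≤ q := (D.card_Z (q := q)) ▸ Nat.le_of_dvd Nat.card_pos (card_dvd_of_le hCZ)
    have hSq : Nat.card ↥(D.S : Subgroup G) = q ^ 3 := D.card_S (q := q)
    rw [hSq] at hle
    have := Nat.le_of_dvd (Nat.mul_pos Nat.card_pos Nat.card_pos) hle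
    nlinarith [Nat.mul_le_mul hq8 hq8]
  have hclosed : ∀ x ∈ (T : Subgroup (G ⧸ center G)), x ≠ 1 →
      Group.IsSolvable ↥(centralizer ({x} : Set (G ⧸ center G))) := by
    rintro _ ⟨x, hx, rfl⟩ hx1
    have hxZ : x ∉ D.Z := fun h => hx1 ((hπ1 x).2 (hcen h))
    exact isSolvable_preimage le_rfl x (centralizer_outside (q := q) hM D hx hxZ fun z hz _ => Or.inl (hcen hz)).1
  obtain ⟨hWodd, -⟩ := complete hTc hT2 hT8 hclosed
  obtain ⟨K, hK, hNK, hCK⟩ : ∃ K : Subgroup (G ⧸ center G), ((K = ⊤) → (T : Subgroup (G ⧸ center G)).Normal) ∧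
      normalizer ((T : Subgroup (G ⧸ center G)) : Set (G ⧸ center G)) ≤ K ∧
        ∀ a ∈ (T : Subgroup (G ⧸ center G)), a ≠ 1 → coreC a ≤ K := by
    by_cases hW : closureW (T : Subgroup (G ⧸ center G)) = ⊥
    · exact ⟨_, fun h => normalizer_eq_top_iff.1 h, le_rfl,
        fun a ha ha1 => ((coreC_le_closureW ha ha1).trans hW.le).trans bot_le⟩
    · refine ⟨normalizer (closureW (T : Subgroup (G ⧸ center G)) : Set (G ⧸ center G)), fun h => absurd ?_ hW,
        normalizer_closureW _, fun a ha ha1 => (coreC_le_closureW ha ha1).trans le_normalizer⟩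
      haveI := normalizer_eq_top_iff.1 h
      exact pPrimeCore_quotient_central le_rfl hCp hO _ hWodd
  rcases eq_or_ne K ⊤ with hK1 | hK1
  · have h := (hK hK1).comap π
    rwa [hTm, comap_map_eq, QuotientGroup.ker_mk', sup_eq_left.2 (hCZ.trans D.Z_le)] at h
  exfalso
  have heven : 2 ∣ Nat.card (G ⧸ center G) := by
    obtain ⟨j, hj⟩ := T.2.exists_card_eq
    refine Dvd.dvd.trans ?_ (card_subgroup_dvd_card (T : Subgroup (G ⧸ center G)))
    rw [hj] at hT8 ⊢
    exact dvd_pow_self 2 fun e => by subst e; simp at hT8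
  have hSE : Cfsg.IsStronglyEmbedded K := se_of_centralizers T heven hK1 hNK fun a haT hao => by
    have ha1 : a ≠ 1 := fun e => by rw [e, orderOf_one] at hao; omega
    have hTa : (T : Subgroup (G ⧸ center G)) ≤ centralizer ({a} : Set (G ⧸ center G)) := fun t ht =>
      mem_centralizer_singleton_iff.2 (hTc t ht a haT)
    haveI := hclosed a haT ha1
    exact centralizer_le_of_closed T hTa
      (Cfsg.Agent.S0018.result 2 (T.subtype hTa) ⟨⟨fun x y => Subtype.ext (Subtype.ext
        (hTc _ (mem_subgroupOf.1 x.2) _ (mem_subgroupOf.1 y.2)))⟩⟩) (hCK a haT ha1) hNK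
  -- two different squares
  obtain ⟨z, hz, hz1⟩ : ∃ z ∈ D.Z, z ≠ 1 := by
    haveI : Nontrivial D.Z := Finite.one_lt_card_iff_nontrivial.1 (by rw [D.card_Z (q := q)]; omega)
    obtain ⟨z, hz⟩ := exists_ne (1 : D.Z)
    exact ⟨z, z.2, fun e => hz (Subtype.ext e)⟩
  obtain ⟨z', hz', hz'1, hzz'⟩ : ∃ z' ∈ D.Z, z' ≠ 1 ∧ z' ≠ z := by
    by_contra hno
    push Not at hno
    have : Nat.card D.Z ≤ Nat.card Bool := Nat.card_le_card_of_injective (fun x => decide ((x : G) = 1))
      fun x y hxy => by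
        simp only [decide_eq_decide] at hxy
        refine Subtype.ext ?_
        by_cases hx : (x : G) = 1
        · rw [hx, hxy.1 hx]
        · rw [hno x x.2 hx, hno y y.2 fun e => hx (hxy.2 e)]
    rw [D.card_Z (q := q), show Nat.card Bool = 2 by simp] at this
    omega
  obtain ⟨x, hx, hxz⟩ := D.exists_sqrt hz
  obtain ⟨y, hy, hyz⟩ := D.exists_sqrt hz'
  have hord : ∀ x ∈ (D.S : Subgroup G), x * x ≠ 1 → orderOf (x : G ⧸ center G) = 2 := fun x hx h1 =>
    orderOf_eq_prime (hT2 _ ⟨x, hx, rfl⟩) fun e => h1 (hC2 x ((hπ1 x).1 e))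
  obtain ⟨g, hg⟩ := sq_of_isConj le_rfl hC2
    (SE.all_conj hSE (hord x hx (hxz ▸ hz1)) (hord y hy (hyz ▸ hz'1)))
  rw [hxz, hyz, Subgroup.mem_center_iff.1 (hcen hz) g, mul_inv_cancel_right] at hg
  exact hzz' hg.symm

include hq in
/-- Some but not all involutions of the Sylow subgroup are central. -/
theorem case_mixed (hM : BenderHyp.{u}) (D : Data σ G) (hO : Cfsg.pPrimeCore 2 G = ⊥)
    (hcl : ∀ a ∈ D.Z, (hac : a ∉ center G) →
      ∀ hS : (D.S : Subgroup G) ≤ centralizer ({a} : Set G),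
        (((D.S.subtype hS : Sylow 2 ↥(centralizer ({a} : Set G))) :
          Subgroup ↥(centralizer ({a} : Set G))) ⊔ Cfsg.pPrimeCore 2 ↥(centralizer ({a} : Set G))).Normal)
    {c₀ a₀ : G} (hc₀Z : c₀ ∈ D.Z) (hc₀ : c₀ ∈ center G) (hc₀1 : c₀ ≠ 1) (ha₀Z : a₀ ∈ D.Z) (ha₀ : a₀ ∉ center G) :
    (D.S : Subgroup G).Normal := by
  classical
  haveI : Fact (Nat.Prime 2) := ⟨Nat.prime_two⟩
  have hCZ := center_le D hO
  have hC2 : ∀ c ∈ center G, c * c = 1 := fun c hc => D.Z_sq (hCZ hc)
  have hCp : IsPGroup 2 (center G) := D.S.2.to_le (hCZ.trans D.Z_le)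
  have hsolvZ : ∀ z ∈ D.Z, z ≠ 1 → z ∈ center G ∨ Group.IsSolvable ↥(centralizer ({z} : Set G)) :=
    fun z hz _ => or_iff_not_imp_left.2 fun h => isSolvable_of_closed _ (hcl z hz h (D.S_le_centralizer hz))
  -- a second independent involution
  obtain ⟨b₀, hb₀Z, hb₀, hab₀⟩ : ∃ b ∈ D.Z, b ∉ center G ∧ a₀ * b ∉ center G := by
    by_contra hno
    push Not at hno
    have hao : orderOf a₀ = 2 := orderOf_eq_prime (by rw [pow_two]; exact D.Z_sq ha₀Z)
      fun e => ha₀ (e ▸ one_mem _)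
    obtain ⟨N, hNn, hNo, hN⟩ := CfsgLib.Involution.ZStar.exists_odd_normal_of_sylow D.S hao (D.Z_le ha₀Z)
      fun g hg => by
        have hgZ : g * a₀ * g⁻¹ ∈ D.Z :=
          D.involution_mem hg (by rw [show g * a₀ * g⁻¹ = MulAut.conj g a₀ from rfl, MulEquiv.orderOf_eq, hao])
        have hgc : g * a₀ * g⁻¹ ∉ center G := fun h => ha₀ (by
          have h2 : g * a₀ * g⁻¹ = a₀ := by
            have := Subgroup.mem_center_iff.1 h g
            calc g * a₀ * g⁻¹ = g⁻¹ * (g * (g * a₀ * g⁻¹)) := by group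
              _ = g⁻¹ * (g * a₀ * g⁻¹ * g) := by rw [this]
              _ = a₀ := by group
          rwa [h2] at h)
        have hc : a₀ * (g * a₀ * g⁻¹) ∈ center G := hno _ hgZ hgc
        have e : g * a₀ * g⁻¹ = a₀ * (a₀ * (g * a₀ * g⁻¹)) := by
          rw [← mul_assoc a₀, D.Z_sq ha₀Z, one_mul]
        rw [e, fix_of_odd D.S (D.S_le_centralizer ha₀Z) hc (by rw [pow_two]; exact hC2 _ hc) e
          (D.S_le_centralizer (e ▸ hgZ)), mul_one]
    haveI := hNn
    have hN1 : N = ⊥ := eq_bot_iff.2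
      ((CfsgLib.Solvable.Cores.le_pPrimeCore (Nat.coprime_two_right.2 hNo)).trans hO.le)
    refine ha₀ (Subgroup.mem_center_iff.2 fun g => ?_)
    have h := mem_bot.1 (hN1.le (hN g))
    rw [mul_inv_eq_one, mul_inv_eq_iff_eq_mul] at h
    exact h.symm
  set π := QuotientGroup.mk' (center G) with hπ
  have hπ1 : ∀ x : G, π x = 1 ↔ x ∈ center G := fun x => QuotientGroup.eq_one_iff x
  set A := D.Z.map π with hA
  have hA2 : ∀ x ∈ A, x * x = 1 := by
    rintro _ ⟨x, hx, rfl⟩
    rw [← map_mul, D.Z_sq hx, map_one]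
  have hAnc : ¬ IsCyclic A := not_isCyclic_of_three hA2 (mem_map_of_mem π ha₀Z) (mem_map_of_mem π hb₀Z)
    (fun e => ha₀ ((hπ1 _).1 e)) (fun e => hb₀ ((hπ1 _).1 e)) fun e => hab₀ ((hπ1 _).1 (by
      rw [map_mul, e, ← map_mul, D.Z_sq hb₀Z, map_one]))
  -- solvable centralisers in the quotient
  have hsolv : ∀ s ∈ (D.S : Subgroup G), s * s ∈ center G → π s ≠ 1 →
      Group.IsSolvable ↥(centralizer ({π s} : Set (G ⧸ center G))) := by
    intro s hs hs2 hs1
    refine isSolvable_preimage le_rfl s ?_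
    by_cases hsZ : s ∈ D.Z
    · exact (hsolvZ s hsZ fun e => hs1 (by rw [e, map_one])).resolve_left fun h => hs1 ((hπ1 s).2 h)
    · exact (centralizer_outside (q := q) hM D hs hsZ hsolvZ).1
  -- elementary abelian subgroups of order at least eight above the image of the centre
  have hU : ∀ w ∈ (D.S : Subgroup G), w ∉ D.Z → w * w ∈ center G →
      Odd (Nat.card (closureW A)) ∧ coreC (π w) ≤ closureW A := by
    intro w hw hwZ hw2
    let U0 : Subgroup G :=
      { carrier := {x | x ∈ D.Z ∨ w * x ∈ D.Z}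
        one_mem' := Or.inl (one_mem _)
        mul_mem' := fun {x y} hx hy => by
          rcases hx with hx | hx <;> rcases hy with hy | hy
          · exact Or.inl (mul_mem hx hy)
          · exact Or.inr (by rw [← mul_assoc, ← D.Z_comm hx hw, mul_assoc]; exact mul_mem hx hy)
          · exact Or.inr (by rw [← mul_assoc]; exact mul_mem hx hy)
          · refine Or.inl ?_
            have hxS : x ∈ (D.S : Subgroup G) := (mul_mem_cancel_left hw).1 (D.Z_le hx)
            have hwx : w * x * w = w * (w * x) := D.Z_comm hx hw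
            have e : x * y = (w * x) * (w * y) * (w * w)⁻¹ := by
              calc x * y = w⁻¹ * w⁻¹ * (w * (w * x)) * y := by group
                _ = (w * w)⁻¹ * ((w * x) * (w * y)) := by rw [← hwx]; group
                _ = _ := (Subgroup.mem_center_iff.1 (inv_mem hw2) _).symm
            rw [e]
            exact mul_mem (mul_mem hx hy) (inv_mem (D.sq_mem hw))
        inv_mem' := fun {x} hx => by
          rcases hx with hx | hx
          · exact Or.inl (inv_mem hx)
          · refine Or.inr ?_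
            have h1 : x⁻¹ * w⁻¹ = w⁻¹ * x⁻¹ := by
              have hxS : x ∈ (D.S : Subgroup G) := (mul_mem_cancel_left hw).1 (D.Z_le hx)
              have hcw : w * x * w = w * (w * x) := D.Z_comm hx hw
              have : x * w = w * x := mul_left_cancel (a := w) (by rw [← mul_assoc, hcw])
              rw [← mul_inv_rev, ← mul_inv_rev, this]
            have e : w * x⁻¹ = (w * x)⁻¹ * (w * w) := by
              calc w * x⁻¹ = w * (x⁻¹ * w⁻¹) * w := by group
                _ = x⁻¹ * w⁻¹ * (w * w) := by conv_lhs => rw [h1]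
                                              group
                _ = _ := by rw [mul_inv_rev]
            rw [e]
            exact mul_mem (inv_mem hx) (D.sq_mem hw) }
    have hU0 : ∀ x ∈ U0, x ∈ (D.S : Subgroup G) ∧ x * x ∈ center G ∧ w * x = x * w := by
      rintro x (hx | hx)
      · exact ⟨D.Z_le hx, by rw [D.Z_sq hx]; exact one_mem _, (D.Z_comm hx hw).symm⟩
      · have hcw : w * x * w = w * (w * x) := D.Z_comm hx hw
        have hxw : x * w = w * x := mul_left_cancel (a := w) (by rw [← mul_assoc, hcw])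
        refine ⟨(mul_mem_cancel_left hw).1 (D.Z_le hx), ?_, hxw.symm⟩
        have e : w * x * (w * x) = w * w * (x * x) := (show Commute x w from hxw).mul_mul_mul_comm w x
        rw [D.Z_sq hx] at e
        exact (mul_mem_cancel_left hw2).1 (e ▸ one_mem _)
    set U := U0.map π with hU
    have hUc : ∀ x ∈ U, ∀ y ∈ U, x * y = y * x := by
      rintro _ ⟨x, hx, rfl⟩ _ ⟨y, hy, rfl⟩
      rw [← map_mul, ← map_mul,
        D.centralizer_comm hw hwZ (hU0 x hx).1 (hU0 y hy).1 (hU0 x hx).2.2 (hU0 y hy).2.2]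
    have hU2 : ∀ x ∈ U, x ^ 2 = 1 := by
      rintro _ ⟨x, hx, rfl⟩
      rw [pow_two, ← map_mul]
      exact (hπ1 _).2 (hU0 x hx).2.1
    have hAU : A ≤ U := map_mono fun x hx => Or.inl hx
    have hwU : π w ∈ U := mem_map_of_mem _ (Or.inr (D.sq_mem hw))
    have hwA : π w ∉ A := by
      rintro ⟨z, hz, e⟩
      have h : z⁻¹ * w ∈ center G := QuotientGroup.eq.1 e
      exact hwZ ((mul_mem_cancel_left (inv_mem hz)).1 (hCZ h))
    have hU8 : 2 ^ 3 ≤ Nat.card U := by
      have hUp : IsPGroup 2 U := fun x => ⟨1, Subtype.ext (by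
        rw [pow_one, SubgroupClass.coe_pow]; exact hU2 _ x.2)⟩
      obtain ⟨j, hj⟩ := hUp.exists_card_eq
      obtain ⟨i, hi⟩ := (hUp.to_le hAU).exists_card_eq
      have hi2 : 2 ≤ i := by
        by_contra hlt
        refine hAnc ?_
        interval_cases i
        · haveI := (Nat.card_eq_one_iff_unique.1 (show Nat.card A = 1 by rw [hi, pow_zero])).1
          exact isCyclic_of_subsingleton
        · exact isCyclic_of_prime_card (p := 2) (by rw [hi, pow_one])
      have hlt : Nat.card A < Nat.card U := by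
        refine lt_of_le_of_ne (Nat.le_of_dvd Nat.card_pos (card_dvd_of_le hAU)) fun e => hwA ?_
        rw [eq_of_le_of_card_ge hAU e.ge]; exact hwU
      rw [hi, hj] at hlt
      have := (Nat.pow_lt_pow_iff_right (by norm_num : 1 < 2)).1 hlt
      rw [hj]
      exact Nat.pow_le_pow_right (by norm_num) (by omega)
    have hUs : ∀ x ∈ U, x ≠ 1 → Group.IsSolvable ↥(centralizer ({x} : Set (G ⧸ center G))) := by
      rintro _ ⟨x, hx, rfl⟩ hx1
      exact hsolv x (hU0 x hx).1 (hU0 x hx).2.1 hx1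
    have hle := closureW_le_of_le hUc hU2 hU8 hUs hAU hAnc
    obtain ⟨hodd, -⟩ := complete hUc hU2 hU8 hUs
    have hge : closureW A ≤ closureW U := iSup_le fun a => coreC_le_closureW (hAU a.2.1) a.2.2
    exact ⟨hodd.of_dvd_nat (card_dvd_of_le hge),
      (coreC_le_closureW hwU fun e => hwZ (hCZ ((hπ1 w).1 e))).trans hle⟩
  obtain ⟨w₀, hw₀, hw₀c⟩ := D.exists_sqrt hc₀Z
  have hw₀Z : w₀ ∉ D.Z := fun h => hc₀1 (hw₀c ▸ D.Z_sq h)
  have hWodd := (hU w₀ hw₀ hw₀Z (hw₀c.symm ▸ hc₀)).1
  -- images of odd cores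
  have himg : ∀ x : G, (∀ g ∈ ((centralizer ({π x} : Set (G ⧸ center G))).comap π),
      ∀ o ∈ coreC x, g * o * g⁻¹ ∈ coreC x) → (coreC x).map π ≤ coreC (π x) := by
    intro x hx
    refine le_coreC ?_ ?_ ((coreC_odd x).of_dvd_nat (card_map_dvd _ _))
    · rintro _ ⟨o, ho, rfl⟩
      rw [mem_centralizer_singleton_iff, ← map_mul, ← map_mul, mem_centralizer_singleton_iff.1 (coreC_le x ho)]
    · intro k hk
      obtain ⟨g, rfl⟩ := QuotientGroup.mk'_surjective (center G) k
      refine mem_normalizer_fintype ?_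
      rintro _ ⟨o, ho, rfl⟩
      exact ⟨g * o * g⁻¹, hx g hk o ho, by rw [map_mul, map_mul, map_inv]⟩
  have hpre : ∀ x g : G, π g ∈ centralizer ({π x} : Set (G ⧸ center G)) →
      ∃ c ∈ center G, g * x * g⁻¹ = x * c := by
    intro x g hg
    have h := mem_centralizer_singleton_iff.1 hg
    exact ⟨x⁻¹ * (g * x * g⁻¹), (hπ1 _).1 (by
      rw [map_mul, map_mul, map_mul, map_inv, map_inv, h, mul_inv_cancel_right, inv_mul_cancel]),
      (mul_inv_cancel_left _ _).symm⟩
  have hfixZ : ∀ a ∈ D.Z, ∀ g : G, π g ∈ centralizer ({π a} : Set (G ⧸ center G)) →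
      g ∈ centralizer ({a} : Set G) := by
    intro a ha g hg
    obtain ⟨c, hc, hgc⟩ := hpre a g hg
    rw [fix_of_odd D.S (D.S_le_centralizer ha) hc (by rw [pow_two]; exact hC2 c hc) hgc
      (D.S_le_centralizer (mul_mem ha (hCZ hc))), mul_one] at hgc
    exact mem_centralizer_singleton_iff.2 (mul_inv_eq_iff_eq_mul.1 hgc)
  have himgZ : ∀ a ∈ D.Z, π a ≠ 1 → (coreC a).map π ≤ closureW A := fun a ha ha1 =>
    (himg a fun g hg o ho => (mem_normalizer_iff.1 (coreC_normal a (hfixZ a ha g hg)) o).1 ho).trans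
      (coreC_le_closureW (mem_map_of_mem π ha) ha1)
  -- the candidate for a strongly embedded subgroup
  have hmapN : ∀ g ∈ normalizer (D.Z : Set G), π g ∈ normalizer (A : Set (G ⧸ center G)) := by
    intro g hg
    exact le_normalizer_map π (mem_map_of_mem π hg)
  obtain ⟨K, hKtop, hNK, hWK⟩ : ∃ K : Subgroup (G ⧸ center G), (K = ⊤ → closureW A = ⊥ ∧ A.Normal) ∧
      normalizer (A : Set (G ⧸ center G)) ≤ K ∧ closureW A ≤ K := by
    by_cases hW : closureW A = ⊥
    · exact ⟨_, fun h => ⟨hW, normalizer_eq_top_iff.1 h⟩, le_rfl, hW.le.trans bot_le⟩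
    · refine ⟨normalizer (closureW A : Set (G ⧸ center G)), fun h => absurd ?_ hW, normalizer_closureW A,
        le_normalizer⟩
      haveI := normalizer_eq_top_iff.1 h
      exact pPrimeCore_quotient_central le_rfl hCp hO _ hWodd
  rcases eq_or_ne K ⊤ with hK1 | hK1
  · obtain ⟨hW, hAn⟩ := hKtop hK1
    have hZn : D.Z.Normal := by
      have h := hAn.comap π
      rwa [hA, comap_map_eq, QuotientGroup.ker_mk', sup_eq_left.2 hCZ] at h
    set C1 := centralizer (D.Z : Set G) with hC1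
    haveI : C1.Normal := by haveI := hZn; infer_instance
    have hSC : (D.S : Subgroup G) ≤ C1 := fun s hs => mem_centralizer_iff.2 fun z hz => D.Z_comm hz hs
    -- the centraliser of `a₀` normalises the Sylow subgroup
    have hcore : coreC a₀ = ⊥ := by
      have h1 : (coreC a₀).map π = ⊥ :=
        eq_bot_iff.2 ((himgZ a₀ ha₀Z fun e => ha₀ ((hπ1 _).1 e)).trans hW.le)
      rw [Subgroup.map_eq_bot_iff, QuotientGroup.ker_mk'] at h1
      refine eq_bot_iff.2 fun o ho => mem_bot.2 (orderOf_eq_one_iff.1 ?_)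
      obtain ⟨i, hi⟩ := hCp ⟨o, h1 ho⟩
      exact Nat.eq_one_of_dvd_coprimes ((Nat.coprime_two_left.2 (coreC_odd a₀)).pow_left i)
        (orderOf_dvd_of_pow_eq_one (congrArg Subtype.val hi)) (Subgroup.orderOf_dvd_natCard _ ho)
    have hCN : centralizer ({a₀} : Set G) ≤ normalizer ((D.S : Subgroup G) : Set G) :=
      centralizer_le_of_closed D.S (D.S_le_centralizer ha₀Z) (hcl a₀ ha₀Z ha₀ _) (hcore.le.trans bot_le) le_rfl
    refine ⟨fun s hs g => ?_⟩
    have hgs : g * s * g⁻¹ ∈ C1 := Normal.conj_mem inferInstance s (hSC hs) g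
    obtain ⟨k, hk⟩ := D.S.2 ⟨s, hs⟩
    refine UnitaryCentralizer.mem_sylow_of_mem_normalizer D.S (hCN (mem_centralizer_singleton_iff.2
      (mem_centralizer_iff.1 hgs a₀ ha₀Z).symm)) (k := k) ?_
    rw [conj_pow, show s ^ 2 ^ k = 1 from congrArg Subtype.val hk, mul_one, mul_inv_cancel]
  exfalso
  set T := D.S.mapSurjective (QuotientGroup.mk'_surjective (center G)) with hT
  have hTm : (T : Subgroup (G ⧸ center G)) = (D.S : Subgroup G).map π := rfl
  have hNT : normalizer ((T : Subgroup (G ⧸ center G)) : Set (G ⧸ center G)) ≤ K := by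
    intro k hk
    obtain ⟨g, rfl⟩ := QuotientGroup.mk'_surjective (center G) k
    refine hNK (hmapN g (D.normalizer_le (mem_normalizer_fintype fun s hs => ?_)))
    have h := (mem_normalizer_iff.1 hk (π s)).1 (mem_map_of_mem π hs)
    rw [← map_inv, ← map_mul, ← map_mul, hTm] at h
    obtain ⟨s', hs', e⟩ := h
    have h' : s'⁻¹ * (g * s * g⁻¹) ∈ center G := QuotientGroup.eq.1 e
    exact (mul_mem_cancel_left (inv_mem hs')).1 ((hCZ.trans D.Z_le) h')
  have heven : 2 ∣ Nat.card (G ⧸ center G) := by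
    refine (dvd_of_eq ?_).trans (orderOf_dvd_natCard (π a₀))
    exact (orderOf_eq_prime (by rw [← map_pow, pow_two, D.Z_sq ha₀Z, map_one]) fun e => ha₀ ((hπ1 _).1 e)).symm
  have hSE : Cfsg.IsStronglyEmbedded K := se_of_centralizers T heven hK1 hNT fun x hxT hxo => by
    rw [hTm] at hxT
    obtain ⟨w, hw, rfl⟩ := hxT
    have hw1 : π w ≠ 1 := fun e => by rw [e, orderOf_one] at hxo; omega
    have hw2 : w * w ∈ center G := (hπ1 _).1 (by
      have e := pow_orderOf_eq_one (π w)
      rw [hxo, pow_two] at e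
      rw [map_mul, e])
    intro k hk
    obtain ⟨g, rfl⟩ := QuotientGroup.mk'_surjective (center G) k
    by_cases hwZ : w ∈ D.Z
    · -- the centre of the Sylow subgroup
      obtain ⟨o, ho, n, hn, hgn⟩ := closed_decomp (D.S.subtype (D.S_le_centralizer hwZ))
        (hcl w hwZ (fun h => hw1 ((hπ1 w).2 h)) _) ⟨g, hfixZ w hwZ g hk⟩
      have hgn' : g = (o : G) * (n : G) := congrArg Subtype.val hgn
      rw [hgn', map_mul]
      refine mul_mem (hWK (himgZ w hwZ hw1 (mem_map_of_mem π ⟨o, ho, rfl⟩)))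
        (hNK (hmapN _ (D.normalizer_le (mem_normalizer_fintype fun s hs => ?_))))
      exact (mem_normalizer_iff.1 hn ⟨s, D.S_le_centralizer hwZ hs⟩).1 hs
    · -- elements of order four
      set H := centralizer ({w} : Set G) with hH
      obtain ⟨-, TW, hTW, hTWn⟩ := centralizer_outside (q := q) hM D hw hwZ hsolvZ
      obtain ⟨c, hc, hgc⟩ := hpre w g hk
      have hCw : centralizer ({w * c} : Set G) = centralizer ({w} : Set G) := by
        ext y
        rw [mem_centralizer_singleton_iff, mem_centralizer_singleton_iff, ← mul_assoc,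
          mul_assoc w c y, ← Subgroup.mem_center_iff.1 hc y, ← mul_assoc, mul_left_inj]
      have hconjC : ∀ x ∈ centralizer ({w} : Set G), g * x * g⁻¹ ∈ centralizer ({w} : Set G) := by
        intro x hx
        rw [← hCw, mem_centralizer_singleton_iff, ← hgc]
        calc g * x * g⁻¹ * (g * w * g⁻¹) = g * (x * w) * g⁻¹ := by group
          _ = g * (w * x) * g⁻¹ := by rw [mem_centralizer_singleton_iff.1 hx]
          _ = g * w * g⁻¹ * (g * x * g⁻¹) := by group
      let φ : ↥H →* ↥H := ((MulAut.conj g).toMonoidHom.comp H.subtype).codRestrict H fun x => hconjC x x.2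
      have hφ : Function.Bijective φ := Finite.injective_iff_bijective.1 fun x y e =>
        Subtype.ext ((MulAut.conj g).injective (congrArg Subtype.val e :))
      obtain ⟨h, hh⟩ := MulAction.exists_smul_eq ↥H (TW.mapSurjective hφ.2) TW
      have hn : ∀ x ∈ (D.S : Subgroup G) ⊓ H, ((h : G) * g) * x * ((h : G) * g)⁻¹ ∈ (D.S : Subgroup G) ⊓ H := by
        rintro x ⟨hxS, hxH⟩
        have hx' : (⟨x, hxH⟩ : ↥H) ∈ (TW : Subgroup ↥H) := by rw [hTW]; exact hxS
        have hmem : h * φ ⟨x, hxH⟩ * h⁻¹ ∈ (TW : Subgroup ↥H) := by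
          have h2 : h * φ ⟨x, hxH⟩ * h⁻¹ ∈ ((h • TW.mapSurjective hφ.2 : Sylow 2 ↥H) : Subgroup ↥H) := by
            rw [Sylow.coe_subgroup_smul]
            exact ⟨φ ⟨x, hxH⟩, ⟨⟨x, hxH⟩, hx', rfl⟩, rfl⟩
          rwa [hh] at h2
        have e : ((h * φ ⟨x, hxH⟩ * h⁻¹ : ↥H) : G) = ((h : G) * g) * x * ((h : G) * g)⁻¹ := by
          show (h : G) * (g * x * g⁻¹) * (h : G)⁻¹ = _
          group
        rw [hTW, mem_subgroupOf] at hmem
        exact ⟨e ▸ hmem, e ▸ (h * φ ⟨x, hxH⟩ * h⁻¹).2⟩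
      have hnZ : (h : G) * g ∈ normalizer (D.Z : Set G) := mem_normalizer_fintype fun x hx => by
        refine (D.sq_eq_one_iff (hn x ⟨D.Z_le hx,
          mem_centralizer_singleton_iff.2 (D.Z_comm hx hw)⟩).1).1 ?_
        rw [show (h : G) * g * x * ((h : G) * g)⁻¹ * ((h : G) * g * x * ((h : G) * g)⁻¹) =
          (h : G) * g * (x * x) * ((h : G) * g)⁻¹ by group, D.Z_sq hx, mul_one, mul_inv_cancel]
      obtain ⟨o, ho, n, hn', hon⟩ := closed_decomp TW hTWn h⁻¹
      have hn'Z : (n : G) ∈ normalizer (D.Z : Set G) := mem_normalizer_fintype fun x hx => by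
        have hxH : x ∈ H := mem_centralizer_singleton_iff.2 (D.Z_comm hx hw)
        have h1 := (mem_normalizer_iff.1 hn' ⟨x, hxH⟩).1 (by rw [hTW]; exact D.Z_le hx)
        rw [hTW] at h1
        refine (D.sq_eq_one_iff h1).1 ?_
        show (n : G) * x * (n : G)⁻¹ * ((n : G) * x * (n : G)⁻¹) = 1
        rw [show (n : G) * x * (n : G)⁻¹ * ((n : G) * x * (n : G)⁻¹) = (n : G) * (x * x) * (n : G)⁻¹ by group,
          D.Z_sq hx, mul_one, mul_inv_cancel]
      have hgdec : g = (o : G) * ((n : G) * ((h : G) * g)) := by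
        have e : ((h : G))⁻¹ = (o : G) * (n : G) := congrArg Subtype.val hon
        rw [← mul_assoc, ← e, inv_mul_cancel_left]
      rw [hgdec, map_mul]
      refine mul_mem (hWK ((hU w hw hwZ hw2).2 (himg w ?_ (mem_map_of_mem π ⟨o, ho, rfl⟩))))
        (hNK (hmapN _ (mul_mem hn'Z hnZ)))
      intro g' hg' o' ho'
      obtain ⟨c', hc', hgc'⟩ := hpre w g' hg'
      have hC' : centralizer ({w * c'} : Set G) = H := by
        ext y
        rw [hH, mem_centralizer_singleton_iff, mem_centralizer_singleton_iff, ← mul_assoc,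
          mul_assoc w c' y, ← Subgroup.mem_center_iff.1 hc' y, ← mul_assoc, mul_left_inj]
      have h1 := conj_mem_coreC g' ho'
      rw [hgc'] at h1
      exact le_coreC (D := coreC (w * c')) (le_of_le_of_eq (coreC_le _) hC') (le_of_eq_of_le hC'.symm (coreC_normal _)) (coreC_odd _) h1
  have hao : orderOf (π a₀) = 2 :=
    orderOf_eq_prime (by rw [← map_pow, pow_two, D.Z_sq ha₀Z, map_one]) fun e => ha₀ ((hπ1 _).1 e)
  have hwo : orderOf (π w₀) = 2 :=
    orderOf_eq_prime (by rw [pow_two, ← map_mul, hw₀c]; exact (hπ1 _).2 hc₀)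
      fun e => hw₀Z (hCZ ((hπ1 _).1 e))
  obtain ⟨g, hg⟩ := sq_of_isConj le_rfl hC2 (SE.all_conj hSE hao hwo)
  rw [D.Z_sq ha₀Z, hw₀c, mul_one, mul_inv_cancel] at hg
  exact hc₀1 hg.symm

/-- The theorem for trivial odd core. -/
theorem main_core (hM : BenderHyp.{u}) (hq8 : 8 ≤ q) :
    ∀ (N : ℕ) (G : Type u) [Group G] [Finite G], Nat.card G = N → Cfsg.pPrimeCore 2 G = ⊥ →
      ∀ D : Data σ G, Concl F q D.S := by
  intro N
  induction N using Nat.strong_induction_on with
  | _ N ih =>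
    intro G _ _ hN hO D
    have hind : ∀ (X : Type u) [Group X] [Finite X], Nat.card X < Nat.card G → Cfsg.pPrimeCore 2 X = ⊥ →
        ∀ E : Data σ X, Concl F q E.S := fun X _ _ hX hOX E => ih _ (hN ▸ hX) X rfl hOX E
    have hcl := fun (a : G) (ha : a ∈ D.Z) (hac : a ∉ center G)
      (_ : (D.S : Subgroup G) ≤ centralizer ({a} : Set G)) => closed_of_ind D hq8 hind ha hac
    by_cases hfree : ∀ a ∈ D.Z, a ∈ center G → a = 1
    · exact case_free hM D hq8 hO hcl hfree
    push Not at hfree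
    obtain ⟨c, hcZ, hc, hc1⟩ := hfree
    by_cases hcen : D.Z ≤ center G
    · exact Or.inl (case_central hM D hq8 hO hcen)
    obtain ⟨a, haZ, ha⟩ := SetLike.not_le_iff_exists.1 hcen
    exact Or.inl (case_mixed (q := q) hM D hO hcl hcZ hc hc1 haZ ha)

end CfsgLib.Involution.UnitarySylowGroup
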